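import Mathlib
import Groth.Prelude.Def_Formal
import Groth.Prelude.Def_Algz

/-! Maps out of objects of Coh(X, I): universal property of the transition maps. -/

set_option autoImplicit false
universe u

open CategoryTheory CategoryTheory.Limits AlgebraicGeometry Opposite

namespace Groth.Agent.Algz7

variable {A : Type u} [CommRing A] {X : Scheme.{u}} [X.Over (Spec (CommRingCat.of A))]

theorem smulMod_naturality {M N : X.Modules} (φ : M ⟶ N) (a : A) :
    Formal.smulMod A M a ≫ φ = φ ≫ Formal.smulMod A N a := by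
  apply SheafOfModules.Hom.ext
  ext U m
  exact (φ.val.app U).hom.map_smul _ _

/-- A map to a module killed by `J` kills the image of `smulFamily J`. -/
theorem smulFamily_comp_eq_zero {J : Ideal A} {M N : X.Modules} (hN : Formal.KilledBy J N) (φ : M ⟶ N) :
    Formal.smulFamily J M ≫ φ = 0 := by
  apply Sigma.hom_ext
  intro a
  rw [comp_zero, ← Category.assoc, Formal.smulFamily, Sigma.ι_desc, smulMod_naturality, hN a a.2,
    comp_zero]

variable {I : Ideal A} {F : ℕᵒᵖ ⥤ X.Modules}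

theorem epi_step (hF : Formal.IsCohFormal I F) (n : ℕ) : Epi (F.map (homOfLE (Nat.le_succ n)).op) := by
  obtain ⟨h0, hiso⟩ := hF.2.2 n
  haveI := hiso
  rw [← cokernel.π_desc _ _ h0]
  exact @epi_comp _ _ _ _ _ _ coequalizer.π_epi _ (@IsIso.epi_of_iso _ _ _ _ _ hiso)

theorem tr_refl (F : ℕᵒᵖ ⥤ X.Modules) (p : ℕ) : ARSys.tr F (le_refl p) = 𝟙 _ := F.map_id _

theorem tr_trans (F : ℕᵒᵖ ⥤ X.Modules) {p q r : ℕ} (h₁ : p ≤ q) (h₂ : q ≤ r) :
    ARSys.tr F h₂ ≫ ARSys.tr F h₁ = ARSys.tr F (h₁.trans h₂) := (F.map_comp _ _).symm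

theorem epi_tr (hF : Formal.IsCohFormal I F) {p q : ℕ} (hpq : p ≤ q) : Epi (ARSys.tr F hpq) := by
  induction q, hpq using Nat.le_induction with
  | base => rw [tr_refl]; infer_instance
  | succ q hq ih =>
    haveI := epi_step hF q
    haveI := ih
    rw [← tr_trans F hq (Nat.le_succ q)]
    exact epi_comp _ _

/-- A map from `F_q` to a module killed by `I^(n+1)` factors through `F_n`. -/
theorem factor (hF : Formal.IsCohFormal I F) {n q : ℕ} (hnq : n ≤ q) {N : X.Modules}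
    (hN : Formal.KilledBy (I ^ (n + 1)) N) (φ : F.obj (op q) ⟶ N) :
    ∃ ψ : F.obj (op n) ⟶ N, ARSys.tr F hnq ≫ ψ = φ := by
  induction q, hnq using Nat.le_induction with
  | base => exact ⟨φ, by rw [tr_refl, Category.id_comp]⟩
  | succ q hq ih =>
    obtain ⟨h0, hiso⟩ := hF.2.2 q
    haveI := hiso
    have hN' : Formal.KilledBy (I ^ (q + 1)) N := fun a ha =>
      hN a (Ideal.pow_le_pow_right (Nat.succ_le_succ hq) ha)
    have h1 := smulFamily_comp_eq_zero hN' φ
    obtain ⟨ψ, hψ⟩ := ih (inv (cokernel.desc _ _ h0) ≫ cokernel.desc _ φ h1)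
    refine ⟨ψ, ?_⟩
    rw [← tr_trans F hq (Nat.le_succ q), Category.assoc, hψ, ← Category.assoc]
    have e : ARSys.tr F (Nat.le_succ q) ≫ inv (cokernel.desc _ _ h0) = cokernel.π _ := by
      rw [IsIso.comp_inv_eq, cokernel.π_desc]
    rw [e, cokernel.π_desc]

theorem existsUnique_hom_of_reindex_hom {G : ℕᵒᵖ ⥤ X.Modules} (hF : Formal.IsCohFormal I F)
    (hG : Formal.IsCohFormal I G) (m : ℕ → ℕ) (hm : Monotone m) (hle : ∀ n : ℕ, n ≤ m n)
    (π : DerCA.reindex F hm ⟶ F) (hπ : ∀ n : ℕ, π.app (op n) = F.map (homOfLE (hle n)).op)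
    (α : DerCA.reindex F hm ⟶ G) : ∃! β : F ⟶ G, π ≫ β = α := by
  let α' : ∀ n, F.obj (op (m n)) ⟶ G.obj (op n) := fun n => α.app (op n)
  have h : ∀ n, ∃ ψ : F.obj (op n) ⟶ G.obj (op n), ARSys.tr F (hle n) ≫ ψ = α' n :=
    fun n => factor hF (hle n) (hG.2.1 n) (α' n)
  choose ψ hψ using h
  refine ⟨{ app := fun n => ψ n.unop, naturality := ?_ }, ?_, ?_⟩
  · rintro ⟨p⟩ ⟨q⟩ f
    have h : q ≤ p := leOfHom f.unop
    rw [show f = (homOfLE h).op from Subsingleton.elim _ _]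
    haveI := epi_tr hF (hle p)
    rw [← cancel_epi (ARSys.tr F (hle p))]
    change ARSys.tr F (hle p) ≫ ARSys.tr F h ≫ ψ q = ARSys.tr F (hle p) ≫ ψ p ≫ ARSys.tr G h
    have hnat : ARSys.tr F (hm h) ≫ α' q = α' p ≫ ARSys.tr G h :=
      α.naturality (homOfLE h).op
    rw [← Category.assoc, tr_trans, ← Category.assoc, hψ p, ← hnat, ← hψ q, ← Category.assoc, tr_trans]
  · ext ⟨n⟩ : 2
    simp only [NatTrans.comp_app, hπ]
    exact hψ n
  · intro β hβ
    ext ⟨n⟩ : 2
    haveI := epi_tr hF (hle n)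
    rw [← cancel_epi (ARSys.tr F (hle n))]
    refine Eq.trans ?_ (hψ n).symm
    change ARSys.tr F (hle n) ≫ β.app (op n) = α.app (op n)
    rw [← hβ, NatTrans.comp_app, hπ]
    rfl

theorem nonempty_iso_of_isProIsomorphic {G : ℕᵒᵖ ⥤ X.Modules} (hF : Formal.IsCohFormal I F)
    (hG : Formal.IsCohFormal I G) (h : Algz.IsProIsomorphic F G) : Nonempty (F ≅ G) := by
  obtain ⟨m, hm, hle, a, ha⟩ := h
  let π : DerCA.reindex F hm ⟶ F :=
    { app := fun n => F.map (homOfLE (hle n.unop)).op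
      naturality := fun p q f =>
        ((F.map_comp _ _).symm.trans (congrArg F.map (Subsingleton.elim _ _))).trans (F.map_comp _ _) }
  obtain ⟨β, hβ, -⟩ := existsUnique_hom_of_reindex_hom hF hG m hm hle π (fun _ => rfl) a
  have hβn : ∀ n, ARSys.tr F (hle n) ≫ β.app (op n) = a.app (op n) := fun n => by
    rw [← hβ]; rfl
  suffices hiso : IsIso β from ⟨asIso β⟩
  suffices ∀ n, IsIso (β.app (op n)) by
    haveI : ∀ x, IsIso (β.app x) := fun x => this x.unop
    exact NatIso.isIso_of_isIso_app β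
  intro n
  let a' : ∀ n, F.obj (op (m n)) ⟶ G.obj (op n) := fun n => a.app (op n)
  have hβn' : ∀ n, ARSys.tr F (hle n) ≫ β.app (op n) = a' n := hβn
  obtain ⟨k, hk, b, hb1, hb2⟩ :
      ∃ (k : ℕ) (hk : n ≤ k) (b : G.obj (op k) ⟶ F.obj (op (m n))),
        a' k ≫ b = ARSys.tr F (hm hk) ∧ b ≫ a' n = ARSys.tr G hk := ha n
  obtain ⟨γ, hγ⟩ := factor hG hk (hF.2.1 n) (b ≫ ARSys.tr F (hle n))
  have hnat : ARSys.tr F (hm hk) ≫ a' n = a' k ≫ ARSys.tr G hk := a.naturality (homOfLE hk).op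
  refine ⟨γ, ?_, ?_⟩
  · haveI := epi_tr hF ((hle n).trans (hm hk))
    rw [← cancel_epi (ARSys.tr F ((hle n).trans (hm hk))), Category.comp_id,
      ← tr_trans F (hle n) (hm hk), Category.assoc, ← Category.assoc (ARSys.tr F (hle n)), hβn',
      ← Category.assoc, hnat, Category.assoc, hγ, ← Category.assoc, hb1]
  · haveI := epi_tr hG hk
    rw [← cancel_epi (ARSys.tr G hk), ← Category.assoc, hγ, Category.assoc, hβn', Category.comp_id, hb2]

end Groth.Agent.Algz7
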