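import Mathlib
import Groth.Agent.Algz7.CohFormal
import Groth.Agent.QCoh.Local
import Groth.Agent.QCoh.Tilde
import Groth.Agent.QCoh.FT

/-! Restriction of objects of Coh(X, I) and of pro-isomorphisms to an open subscheme. -/

set_option autoImplicit false
universe u

open CategoryTheory CategoryTheory.Limits AlgebraicGeometry Opposite

namespace Groth.Agent.Algz7

variable {A : Type u} [CommRing A] {X Y : Scheme.{u}} [X.Over (Spec (CommRingCat.of A))]
  [Y.Over (Spec (CommRingCat.of A))] (f : Y ⟶ X) [IsOpenImmersion f]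
  (hf : f ≫ (X ↘ Spec (CommRingCat.of A)) = Y ↘ Spec (CommRingCat.of A))

theorem appIso_inv_res {X Y : Scheme.{u}} (f : Y ⟶ X) [IsOpenImmersion f] (V : Y.Opens) (r : Γ(X, ⊤)) :
    X.presheaf.map (homOfLE (le_top (a := f ''ᵁ V))).op r =
      (f.appIso V).inv (Y.presheaf.map (homOfLE (le_top (a := V))).op (f.appTop r)) := by
  have h : X.presheaf.map (homOfLE (le_top (a := f ''ᵁ V))).op ≫ (f.appIso V).hom =
      f.appTop ≫ Y.presheaf.map (homOfLE (le_top (a := V))).op := by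
    rw [Scheme.Hom.appIso_hom', Scheme.Hom.map_appLE]
    rfl
  have h2 : X.presheaf.map (homOfLE (le_top (a := f ''ᵁ V))).op =
      (f.appTop ≫ Y.presheaf.map (homOfLE (le_top (a := V))).op) ≫ (f.appIso V).inv := by
    rw [← h, Category.assoc, Iso.hom_inv_id, Category.comp_id]
  exact congr($h2 r)

include hf in
theorem restrict_smulMod (M : X.Modules) (a : A) :
    (Scheme.Modules.restrictFunctor f).map (Formal.smulMod A M a) =
      Formal.smulMod A ((Scheme.Modules.restrictFunctor f).obj M) a := by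
  have key : ∀ V : Y.Opens, X.presheaf.map (homOfLE (le_top (a := f ''ᵁ V))).op
      (Coh.toGlobal (X ↘ Spec (CommRingCat.of A)) a) =
      (f.appIso V).inv (Y.presheaf.map (homOfLE (le_top (a := V))).op
        (Coh.toGlobal (Y ↘ Spec (CommRingCat.of A)) a)) := by
    intro V
    have e1 : Coh.toGlobal (Y ↘ Spec (CommRingCat.of A)) a =
        f.appTop (Coh.toGlobal (X ↘ Spec (CommRingCat.of A)) a) := by
      rw [← hf]; rfl
    rw [e1]
    exact appIso_inv_res f V _
  apply SheafOfModules.Hom.ext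
  ext V m
  exact congrArg (· • (show Γ(M, f ''ᵁ V.unop) from m)) (key V.unop)

/-- `g : M ⟶ N` identifies `N` with `M / J M`. -/
def IsQuot (J : Ideal A) {M N : X.Modules} (g : M ⟶ N) : Prop :=
  ∃ h : Formal.smulFamily J M ≫ g = 0, IsIso (cokernel.desc _ g h)

theorem IsQuot.mk' {J : Ideal A} {M N : X.Modules} (g : M ⟶ N) [Epi g] (hN : Formal.KilledBy J N)
    (hdesc : ∀ {P : X.Modules} (φ : M ⟶ P), Formal.smulFamily J M ≫ φ = 0 → ∃ ψ, g ≫ ψ = φ) :
    IsQuot J g := by
  refine ⟨smulFamily_comp_eq_zero hN g, ?_⟩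
  obtain ⟨ψ, hψ⟩ := hdesc (cokernel.π (Formal.smulFamily J M)) (cokernel.condition _)
  refine ⟨ψ, ?_, ?_⟩
  · rw [← cancel_epi (cokernel.π (Formal.smulFamily J M)), ← Category.assoc, cokernel.π_desc, hψ,
      Category.comp_id]
  · rw [← cancel_epi g, ← Category.assoc, hψ, cokernel.π_desc, Category.comp_id]

theorem IsQuot.epi {J : Ideal A} {M N : X.Modules} {g : M ⟶ N} (hg : IsQuot J g) : Epi g := by
  obtain ⟨h0, hiso⟩ := hg
  rw [← cokernel.π_desc _ _ h0]
  exact @epi_comp _ _ _ _ _ _ coequalizer.π_epi _ (@IsIso.epi_of_iso _ _ _ _ _ hiso)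

theorem IsQuot.desc {J : Ideal A} {M N : X.Modules} {g : M ⟶ N} (hg : IsQuot J g) {P : X.Modules}
    (φ : M ⟶ P) (hφ : Formal.smulFamily J M ≫ φ = 0) : ∃ ψ, g ≫ ψ = φ := by
  obtain ⟨h0, hiso⟩ := hg
  haveI := hiso
  refine ⟨inv (cokernel.desc _ g h0) ≫ cokernel.desc _ φ hφ, ?_⟩
  have e : g ≫ inv (cokernel.desc _ g h0) = cokernel.π _ := by
    rw [IsIso.comp_inv_eq, cokernel.π_desc]
  rw [← Category.assoc, e, cokernel.π_desc]

theorem smulMod_comp_eq_zero {J : Ideal A} {M P : X.Modules} {φ : M ⟶ P}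
    (hφ : Formal.smulFamily J M ≫ φ = 0) {a : A} (ha : a ∈ J) : Formal.smulMod A M a ≫ φ = 0 := by
  have := congrArg (fun t => Sigma.ι (fun _ : J => M) ⟨a, ha⟩ ≫ t) hφ
  simpa [Formal.smulFamily] using this

include hf in
theorem killedBy_restrict {J : Ideal A} {N : X.Modules} (hN : Formal.KilledBy J N) :
    Formal.KilledBy J ((Scheme.Modules.restrictFunctor f).obj N) := fun a ha => by
  haveI : (Scheme.Modules.restrictFunctor f).PreservesZeroMorphisms := inferInstance
  rw [← restrict_smulMod f hf, hN a ha, Functor.map_zero]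

theorem killedBy_of_isQuot {J : Ideal A} {M N : X.Modules} {g : M ⟶ N} (hg : IsQuot J g) :
    Formal.KilledBy J N := fun a ha => by
  haveI := hg.epi
  obtain ⟨h0, -⟩ := hg
  rw [← cancel_epi g, ← smulMod_naturality, smulMod_comp_eq_zero h0 ha, comp_zero]

include hf in
theorem IsQuot.restrict {J : Ideal A} {M N : X.Modules} {g : M ⟶ N} (hg : IsQuot J g) :
    IsQuot J ((Scheme.Modules.restrictFunctor f).map g) := by
  let adj := Scheme.Modules.restrictAdjunction f
  haveI := hg.epi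
  haveI : Epi ((Scheme.Modules.restrictFunctor f).map g) := inferInstance
  refine IsQuot.mk' _ (killedBy_restrict f hf (killedBy_of_isQuot hg)) fun {P} φ hφ => ?_
  obtain ⟨ψ, hψ⟩ := hg.desc (adj.homEquiv _ _ φ) (by
    apply Sigma.hom_ext
    intro a
    rw [comp_zero, ← Category.assoc, Formal.smulFamily, Sigma.ι_desc, ← adj.homEquiv_naturality_left,
      restrict_smulMod f hf, smulMod_comp_eq_zero hφ a.2]
    rw [adj.homEquiv_unit, Functor.map_zero, comp_zero])
  refine ⟨(adj.homEquiv _ _).symm ψ, ?_⟩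
  rw [← adj.homEquiv_naturality_left_symm, hψ, Equiv.symm_apply_apply]

theorem isFT_restrict {M : X.Modules} (hM : Coh.IsQCoh M) (hft : CohB1.IsFT M) :
    CohB1.IsFT (M.restrict f) := by
  rw [QCoh.isFT_iff (QCoh.isQCoh_restrict f hM)]
  intro V
  obtain ⟨s, hs⟩ := (QCoh.finite_of_isFT hM hft (V.2.image_of_isOpenImmersion f)).fg_top
  let T : Set Γ(M.restrict f, V.1) := (s : Set Γ(M, f ''ᵁ V.1))
  refine ⟨⟨s, ?_⟩⟩
  show Submodule.span Γ(Y, V.1) T = ⊤
  rw [eq_top_iff]
  rintro x -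
  suffices key : ∀ z : Γ(M, f ''ᵁ V.1), (show Γ(M.restrict f, V.1) from z) ∈
      Submodule.span Γ(Y, V.1) T from key x
  intro z
  have hx : z ∈ Submodule.span Γ(X, f ''ᵁ V.1) (s : Set Γ(M, f ''ᵁ V.1)) := by rw [hs]; trivial
  induction hx using Submodule.span_induction with
  | mem y hy => exact Submodule.subset_span hy
  | zero => exact Submodule.zero_mem _
  | add y z _ _ hy hz => exact Submodule.add_mem _ hy hz
  | smul r y _ hy =>
    have := Submodule.smul_mem (Submodule.span Γ(Y, V.1) T)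
      ((f.appIso V.1).hom r) hy
    convert this using 1
    show r • y = (f.appIso V.1).inv ((f.appIso V.1).hom r) • y
    rw [← ConcreteCategory.comp_apply, Iso.hom_inv_id]
    rfl

include hf in
theorem isCohFormal_restrict {I : Ideal A} {G : ℕᵒᵖ ⥤ X.Modules} (hG : Formal.IsCohFormal I G) :
    Formal.IsCohFormal I (G ⋙ Scheme.Modules.restrictFunctor f) :=
  ⟨fun n => ⟨QCoh.isQCoh_restrict f (hG.1 n).1, isFT_restrict f (hG.1 n).1 (hG.1 n).2⟩,
    fun n => killedBy_restrict f hf (hG.2.1 n),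
    fun n => IsQuot.restrict f hf (hG.2.2 n)⟩

/-- Pro-isomorphisms are preserved by functors and by isomorphisms of the source. -/
theorem isProIsomorphic_comp {C : Type*} [Category C] {D : Type*} [Category D] {P Q : ℕᵒᵖ ⥤ C}
    {P' : ℕᵒᵖ ⥤ D} (R : C ⥤ D) (θ : P' ≅ P ⋙ R) (h : Algz.IsProIsomorphic P Q) :
    Algz.IsProIsomorphic P' (Q ⋙ R) := by
  obtain ⟨m, hm, hle, a, ha⟩ := h
  refine ⟨m, hm, hle, Functor.whiskerLeft (Monotone.functor hm).op θ.hom ≫ Functor.whiskerRight a R,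
    fun n => ?_⟩
  obtain ⟨k, hk, b, hb1, hb2⟩ := ha n
  refine ⟨k, hk, R.map b ≫ θ.inv.app (op (m n)), ?_, ?_⟩
  · let b' : Q.obj (op k) ⟶ P.obj (op (m n)) := b
    let a' : P.obj (op (m k)) ⟶ Q.obj (op k) := a.app (op k)
    have h1 : a' ≫ b' = ARSys.tr P (hm hk) := hb1
    change (θ.hom.app (op (m k)) ≫ R.map a') ≫ R.map b' ≫ θ.inv.app (op (m n)) = ARSys.tr P' (hm hk)
    rw [Category.assoc, ← Category.assoc (R.map a'), ← R.map_comp, h1,
      show R.map (ARSys.tr P (hm hk)) = (P ⋙ R).map (homOfLE (hm hk)).op from rfl, θ.inv.naturality]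
    exact θ.hom_inv_id_app_assoc (op (m k)) _
  · let b' : Q.obj (op k) ⟶ P.obj (op (m n)) := b
    let a' : P.obj (op (m n)) ⟶ Q.obj (op n) := a.app (op n)
    have h1 : b' ≫ a' = ARSys.tr Q hk := hb2
    change (R.map b' ≫ θ.inv.app (op (m n))) ≫ θ.hom.app (op (m n)) ≫ R.map a' = R.map (ARSys.tr Q hk)
    rw [Category.assoc, Iso.inv_hom_id_app_assoc, ← R.map_comp, h1]

end Groth.Agent.Algz7
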