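import Mathlib
import Groth.Agent.Algz7.Restrict
import Groth.Agent.QCoh.Qcqs
import Groth.Agent.QCoh.ExtendFT
import Groth.Agent.QCoh.SpecFT
import Groth.Prelude.Def_Algz


/-! Systems on an open of `Spec A` which canonically extend, extend. -/

set_option autoImplicit false
universe u

open CategoryTheory CategoryTheory.Limits AlgebraicGeometry Opposite

namespace Groth.Agent.Algz7

variable {A : Type u} [CommRing A]

theorem nonempty_iso_of_counit {J C D M : Type*} [Category J] [Category C] [Category D] [Category M]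
    (G : J ⥤ C) (P : C ⥤ D) (R : D ⥤ C) (Γ' : D ⥤ M) (T : M ⥤ D) (ε₀ : Γ' ⋙ T ⟶ 𝟭 D)
    (ε : P ⋙ R ⟶ 𝟭 C) [IsIso ε] (h : ∀ x, IsIso (ε₀.app (P.obj (G.obj x)))) :
    Nonempty (G ≅ ((G ⋙ P ⋙ Γ') ⋙ T) ⋙ R) := by
  haveI := fun x => h x
  suffices e : ((G ⋙ P ⋙ Γ') ⋙ T) ⋙ R ≅ G from ⟨e.symm⟩
  refine NatIso.ofComponents (fun x => asIso (R.map (ε₀.app (P.obj (G.obj x)))) ≪≫
    (asIso ε).app (G.obj x)) ?_
  intro x y f
  have h1 := ε₀.naturality (P.map (G.map f))
  have h2 := ε.naturality (G.map f)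
  simp only [Functor.comp_map, Functor.id_map] at h1 h2
  simp only [Iso.trans_hom, asIso_hom, Iso.app_hom, Functor.comp_map, Category.assoc]
  rw [← Category.assoc, ← R.map_comp, h1, R.map_comp, Category.assoc, h2]

theorem nonempty_iso_sectSys (U : (Spec (CommRingCat.of A)).Opens) [QuasiCompact U.ι]
    (G : ℕᵒᵖ ⥤ (U : Scheme.{u}).Modules) (hG : ∀ n, Coh.IsQCoh (G.obj (op n))) :
    Nonempty (G ≅ Algz.sectSys A U G ⋙ Scheme.Modules.restrictFunctor U.ι) :=
  nonempty_iso_of_counit G (Scheme.Modules.pushforward U.ι) (Scheme.Modules.restrictFunctor U.ι)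
    (moduleSpecΓFunctor (R := CommRingCat.of A)) (tilde.functor (CommRingCat.of A))
    (Scheme.Modules.fromTildeΓNatTrans (R := CommRingCat.of A))
    (Scheme.Modules.restrictAdjunction U.ι).counit fun x =>
      isIso_fromTildeΓ_iff.mpr
        (QCoh.isQCoh_spec_iff.mp (QCoh.isQCoh_pushforward U.ι (hG x.unop)))

theorem extends_of_canonicallyExtends [IsNoetherianRing A] (I : Ideal A) (U : (Spec (CommRingCat.of A)).Opens)
    (G : ℕᵒᵖ ⥤ (U : Scheme.{u}).Modules) (hG : Formal.IsCohFormal I G)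
    (h : Algz.CanonicallyExtends A I U G) :
    @Algz.Extends A _ (Spec (CommRingCat.of A)) ⟨𝟙 (Spec (CommRingCat.of A))⟩ I U G := by
  letI : (Spec (CommRingCat.of A)).Over (Spec (CommRingCat.of A)) := ⟨𝟙 _⟩
  obtain ⟨G', hG', hpro⟩ := h
  haveI : QuasiCompact U.ι := QCoh.quasiCompact_ι_of_compact U (TopologicalSpace.NoetherianSpace.isCompact _)
  obtain ⟨θ⟩ := nonempty_iso_sectSys U G (fun n => (hG.1 n).1)
  have hres : Formal.IsCohFormal I (G' ⋙ Scheme.Modules.restrictFunctor U.ι) :=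
    isCohFormal_restrict U.ι (Category.comp_id _) hG'
  obtain ⟨e⟩ := nonempty_iso_of_isProIsomorphic hG hres (isProIsomorphic_comp _ θ hpro)
  exact ⟨G', hG', ⟨e.symm⟩⟩

end Groth.Agent.Algz7
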