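import Mathlib
import Groth.Agent.Algz7.Extend
import Groth.Agent.QCoh.Extension

/-! The completion of a coherent module is an object of Coh(X, I), compatibly with restriction. -/

set_option autoImplicit false
universe u

open CategoryTheory CategoryTheory.Limits AlgebraicGeometry Opposite

namespace Groth.Agent.Algz7

variable {A : Type u} [CommRing A] {X : Scheme.{u}} [X.Over (Spec (CommRingCat.of A))]

theorem isCoh_of_epi {M N : X.Modules} (g : M ⟶ N) [Epi g] (hM : Coh.IsCoh M) (hN : Coh.IsQCoh N) :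
    Coh.IsCoh N := by
  refine ⟨hN, (QCoh.isFT_iff hN).mpr fun U => ?_⟩
  have hS : (ShortComplex.mk (kernel.ι g) g (kernel.condition g)).ShortExact :=
    { exact := ShortComplex.exact_of_f_is_kernel _ (kernelIsKernel g) }
  haveI := QCoh.finite_of_isFT hM.1 hM.2 U.2
  exact Module.Finite.of_surjective
    ({ toFun := g.app U.1, map_add' := map_add _, map_smul' := fun r m => g.app_smul r m } :
      Γ(M, U.1) →ₗ[Γ(X, U.1)] Γ(N, U.1))
    (QCoh.app_surjective_of_shortExact hS (QCoh.isQCoh_kernel hM.1 hN g) U.2)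

theorem isQuot_modPowπ (I : Ideal A) (n : ℕ) (M : X.Modules) :
    IsQuot (I ^ n) (Formal.modPowπ I n M) := by
  refine ⟨cokernel.condition _, ?_⟩
  rw [show cokernel.desc _ (Formal.modPowπ I n M) (cokernel.condition _) = 𝟙 _ from
    coequalizer.hom_ext ((cokernel.π_desc _ _ _).trans (Category.comp_id _).symm)]
  exact (Iso.refl (cokernel (Formal.smulFamily (I ^ n) M))).isIso_hom

theorem isQCoh_modPow (I : Ideal A) (n : ℕ) {M : X.Modules} (hM : Coh.IsQCoh M) :
    Coh.IsQCoh (Formal.modPow I n M) :=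
  QCoh.isQCoh_cokernel (QCoh.isQCoh_colimit _ fun _ => hM) hM _

theorem completion_map_succ (I : Ideal A) (M : X.Modules) (n : ℕ) :
    (Formal.completion I M).map (homOfLE (Nat.le_succ n)).op = Formal.modPowTrans I (n + 1) M :=
  Functor.ofOpSequence_map_homOfLE_succ _ n

theorem isCohFormal_completion (I : Ideal A) {M : X.Modules} (hM : Coh.IsCoh M) :
    Formal.IsCohFormal I (Formal.completion I M) := by
  refine ⟨fun n => ?_, fun n => killedBy_of_isQuot (isQuot_modPowπ I (n + 1) M), fun n => ?_⟩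
  · haveI := (isQuot_modPowπ I (n + 1) M).epi
    exact @isCoh_of_epi _ M (Formal.modPow I (n + 1) M) (Formal.modPowπ I (n + 1) M) this hM (isQCoh_modPow I _ hM.1)
  · rw [completion_map_succ]
    change IsQuot (I ^ (n + 1)) (M := Formal.modPow I (n + 1 + 1) M) (N := Formal.modPow I (n + 1) M) (Formal.modPowTrans I (n + 1) M)
    haveI h1 := (isQuot_modPowπ I (n + 1) M).epi
    have hcomp := Formal.modPowπ_trans I (n + 1) M
    haveI : Epi (Formal.modPowTrans I (n + 1) M) := by
      haveI : Epi (Formal.modPowπ I (n + 1 + 1) M ≫ Formal.modPowTrans I (n + 1) M) := by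
        rw [hcomp]; exact h1
      exact epi_of_epi (Formal.modPowπ I (n + 1 + 1) M) _
    refine IsQuot.mk' _ (killedBy_of_isQuot (isQuot_modPowπ I (n + 1) M)) fun {P} φ hφ => ?_
    obtain ⟨ψ, hψ⟩ := (isQuot_modPowπ I (n + 1) M).desc (Formal.modPowπ I (n + 1 + 1) M ≫ φ) (by
      apply Sigma.hom_ext
      intro a
      rw [comp_zero, ← Category.assoc, Formal.smulFamily, Sigma.ι_desc, ← Category.assoc,
        smulMod_naturality, Category.assoc]
      exact (congrArg (Formal.modPowπ I (n + 1 + 1) M ≫ ·) (smulMod_comp_eq_zero hφ a.2)).trans comp_zero)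
    refine ⟨ψ, ?_⟩
    haveI := (isQuot_modPowπ I (n + 1 + 1) M).epi
    rw [← cancel_epi (Formal.modPowπ I (n + 1 + 1) M), ← Category.assoc, hcomp, hψ]

/-- Two systems of quotients of isomorphic modules are isomorphic. -/
theorem nonempty_iso_of_isQuot {I : Ideal A} {M N : X.Modules} (e : M ≅ N) {P Q : ℕᵒᵖ ⥤ X.Modules}
    (p : ∀ n, M ⟶ P.obj (op n)) (q : ∀ n, N ⟶ Q.obj (op n))
    (hp : ∀ n, IsQuot (I ^ (n + 1)) (p n)) (hq : ∀ n, IsQuot (I ^ (n + 1)) (q n))
    (hp' : ∀ n, p (n + 1) ≫ P.map (homOfLE (Nat.le_succ n)).op = p n)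
    (hq' : ∀ n, q (n + 1) ≫ Q.map (homOfLE (Nat.le_succ n)).op = q n) : Nonempty (P ≅ Q) := by
  have mk : ∀ {M N P Q : X.Modules} {J : Ideal A} (e : M ⟶ N) (p : M ⟶ P) (q : N ⟶ Q),
      IsQuot J p → IsQuot J q → ∃ ψ : P ⟶ Q, p ≫ ψ = e ≫ q := fun {M N P Q J} e p q hp hq => by
    refine hp.desc _ ?_
    exact smulFamily_comp_eq_zero (killedBy_of_isQuot hq) _
  choose ψ hψ using fun n => mk e.hom (p n) (q n) (hp n) (hq n)
  choose χ hχ using fun n => mk e.inv (q n) (p n) (hq n) (hp n)
  let η : P ⟶ Q := NatTrans.ofOpSequence ψ fun n => by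
    haveI := (hp (n + 1)).epi
    rw [← cancel_epi (p (n + 1)), ← Category.assoc, hp', hψ, ← Category.assoc, hψ, Category.assoc, hq']
  haveI : ∀ x, IsIso (η.app x) := fun x => by
    haveI := (hp x.unop).epi
    haveI := (hq x.unop).epi
    refine ⟨χ x.unop, ?_, ?_⟩
    · rw [← cancel_epi (p x.unop)]
      change p x.unop ≫ ψ x.unop ≫ χ x.unop = _
      rw [← Category.assoc, hψ, Category.assoc, hχ, Iso.hom_inv_id_assoc, Category.comp_id]
    · rw [← cancel_epi (q x.unop)]
      change q x.unop ≫ χ x.unop ≫ ψ x.unop = _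
      rw [← Category.assoc, hχ, Category.assoc, hψ, Iso.inv_hom_id_assoc, Category.comp_id]
  haveI : IsIso η := NatIso.isIso_of_isIso_app η
  exact ⟨asIso η⟩

theorem extends_of_completion_iso [IsNoetherianRing A] (I : Ideal A) (U : (Spec (CommRingCat.of A)).Opens)
    (G : ℕᵒᵖ ⥤ (U : Scheme.{u}).Modules) (F : (U : Scheme.{u}).Modules) (hF : Coh.IsCoh F)
    (e : Formal.completion I F ≅ G) :
    @Algz.Extends A _ (Spec (CommRingCat.of A)) ⟨𝟙 (Spec (CommRingCat.of A))⟩ I U G := by
  letI : (Spec (CommRingCat.of A)).Over (Spec (CommRingCat.of A)) := ⟨𝟙 _⟩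
  haveI : QuasiCompact U.ι := QCoh.quasiCompact_ι_of_compact U (TopologicalSpace.NoetherianSpace.isCompact _)
  obtain ⟨F', hq, hft, ⟨ε⟩⟩ := QCoh.exists_extension_abs
    (QCoh.extStep_qcqs (TopologicalSpace.NoetherianSpace.isCompact _)) F hF.1 hF.2
  refine ⟨Formal.completion I F', isCohFormal_completion I ⟨hq, hft⟩, ?_⟩
  obtain ⟨θ⟩ := nonempty_iso_of_isQuot ε
    (P := Algz.restrictSys U (Formal.completion I F')) (Q := Formal.completion I F)
    (fun n => (Scheme.Modules.restrictFunctor U.ι).map (Formal.modPowπ I (n + 1) F'))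
    (fun n => Formal.modPowπ I (n + 1) F)
    (fun n => IsQuot.restrict U.ι (Category.comp_id _) (isQuot_modPowπ I (n + 1) F'))
    (fun n => isQuot_modPowπ I (n + 1) F)
    (fun n => by
      change (Scheme.Modules.restrictFunctor U.ι).map _ ≫
        (Scheme.Modules.restrictFunctor U.ι).map ((Formal.completion I F').map _) = _
      rw [completion_map_succ]
      exact ((Scheme.Modules.restrictFunctor U.ι).map_comp _ _).symm.trans
        (congrArg _ (Formal.modPowπ_trans I (n + 1) F')))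
    (fun n => by rw [completion_map_succ]; exact Formal.modPowπ_trans I (n + 1) F)
  exact ⟨θ ≪≫ e⟩

end Groth.Agent.Algz7
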