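import Mathlib
import Groth.Agent.Algz7.Extend
import Groth.Agent.QCoh.SpecFT
import Groth.Agent.Adic7.Limit

/-! Global sections of objects of Coh(Spec A, I) and limits of pro-isomorphic systems. -/

set_option autoImplicit false
universe u v w

open CategoryTheory CategoryTheory.Limits AlgebraicGeometry Opposite

namespace Groth.Agent.Algz7

/-- Pro-isomorphic systems have the same limit. -/
theorem exists_limit_iso {C : Type v} [Category.{w} C] [HasLimitsOfShape ℕᵒᵖ C] {P Q : ℕᵒᵖ ⥤ C}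
    {m : ℕ → ℕ} {hm : Monotone m} (hle : ∀ n, n ≤ m n) (a : DerCA.reindex P hm ⟶ Q) (ha : DerCA.IsProIso a) :
    ∃ e : limit P ≅ limit Q, ∀ n, e.hom ≫ limit.π Q (op n) =
      (limit.π P (op (m n)) : limit P ⟶ P.obj (op (m n))) ≫ a.app (op n) := by
  let α : ∀ n, P.obj (op (m n)) ⟶ Q.obj (op n) := fun n => a.app (op n)
  have hnat : ∀ (i j : ℕ) (h : i ≤ j), ARSys.tr P (hm h) ≫ α i = α j ≫ ARSys.tr Q h :=
    fun i j h => a.naturality (homOfLE h).op
  have hinv : ∀ i, ∃ (j : ℕ) (h : i ≤ j) (b : Q.obj (op j) ⟶ P.obj (op (m i))),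
      α j ≫ b = ARSys.tr P (hm h) ∧ b ≫ α i = ARSys.tr Q h := fun i => ha i
  choose k hk b hb1 hb2 using hinv
  have trP : ∀ {p q r : ℕ} (h₁ : p ≤ q) (h₂ : q ≤ r),
      ARSys.tr P h₂ ≫ ARSys.tr P h₁ = ARSys.tr P (h₁.trans h₂) := fun _ _ => (P.map_comp _ _).symm
  have trP' : ∀ {p q : ℕ} (h : p ≤ q), limit.π P (op q) ≫ ARSys.tr P h = limit.π P (op p) :=
    fun h => limit.w P (homOfLE h).op
  have trQ' : ∀ {p q : ℕ} (h : p ≤ q), limit.π Q (op q) ≫ ARSys.tr Q h = limit.π Q (op p) :=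
    fun h => limit.w Q (homOfLE h).op
  let c : ∀ n, limit Q ⟶ P.obj (op n) := fun n => limit.π Q (op (k n)) ≫ b n ≫ ARSys.tr P (hle n)
  have key : ∀ n j (hj : k n ≤ j),
      c n = limit.π Q (op (k j)) ≫ b j ≫ ARSys.tr P ((hle n).trans (hm ((hk n).trans hj))) := by
    intro n j hj
    simp only [c]
    rw [← trQ' hj, ← trQ' (hk j), ← hb2 j]
    simp only [Category.assoc]
    rw [← Category.assoc (α j), ← hnat, Category.assoc, ← Category.assoc (α (k n)), hb1, trP, trP]
  let cn : Cone P :=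
    { pt := limit Q
      π := NatTrans.mk (fun n => c n.unop) (fun p q f => by
        change 𝟙 _ ≫ c q.unop = c p.unop ≫ P.map f
        have h : q.unop ≤ p.unop := leOfHom f.unop
        rw [Category.id_comp, show f = (homOfLE h).op from Subsingleton.elim _ _,
          key p.unop (max (k p.unop) (k q.unop)) (le_max_left _ _),
          key q.unop (max (k p.unop) (k q.unop)) (le_max_right _ _), Category.assoc, Category.assoc]
        change _ = _ ≫ _ ≫ ARSys.tr P _ ≫ ARSys.tr P h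
        rw [trP]) }
  let cm : Cone Q :=
    { pt := limit P
      π := NatTrans.mk (fun n => limit.π P (op (m n.unop)) ≫ α n.unop) (fun p q f => by
        change 𝟙 _ ≫ limit.π P (op (m q.unop)) ≫ α q.unop = (limit.π P (op (m p.unop)) ≫ α p.unop) ≫ Q.map f
        have h : q.unop ≤ p.unop := leOfHom f.unop
        rw [Category.id_comp, show f = (homOfLE h).op from Subsingleton.elim _ _, Category.assoc]
        change _ = _ ≫ α p.unop ≫ ARSys.tr Q h
        rw [← hnat, ← Category.assoc, trP']) }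
  refine ⟨⟨limit.lift Q cm, limit.lift P cn, ?_, ?_⟩, fun n => limit.lift_π cm (op n)⟩
  · refine limit.hom_ext fun ⟨n⟩ => ?_
    rw [Category.id_comp, Category.assoc, limit.lift_π]
    change limit.lift Q cm ≫ limit.π Q (op (k n)) ≫ b n ≫ ARSys.tr P (hle n) = _
    rw [← Category.assoc, limit.lift_π]
    change (limit.π P (op (m (k n))) ≫ α (k n)) ≫ b n ≫ ARSys.tr P (hle n) = _
    rw [Category.assoc, ← Category.assoc (α (k n)), hb1, trP, trP']
  · refine limit.hom_ext fun ⟨n⟩ => ?_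
    rw [Category.id_comp, Category.assoc, limit.lift_π]
    change limit.lift P cn ≫ limit.π P (op (m n)) ≫ α n = _
    rw [← Category.assoc, limit.lift_π]
    change c (m n) ≫ α n = _
    rw [key (m n) (max (k (m n)) (k n)) (le_max_left _ _)]
    have hn : n ≤ max (k (m n)) (k n) := (hk n).trans (le_max_right _ _)
    have h1 : ARSys.tr P ((hle (m n)).trans (hm ((hk (m n)).trans (le_max_left (k (m n)) (k n))))) =
        ARSys.tr P (hm hn) := rfl
    rw [h1, Category.assoc, Category.assoc, hnat, ← Category.assoc (b _), hb2, ← Category.assoc,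
      trQ', trQ']
    exact hn

/-- Maps out of an object with invertible counit, prescribed on `G`. -/
theorem exists_map_of_adjunction {C : Type*} [Category C] {D : Type*} [Category D] [HasZeroMorphisms C]
    [HasZeroMorphisms D] {F : C ⥤ D} {G : D ⥤ C} [G.PreservesZeroMorphisms] (adj : F ⊣ G) (M : D)
    [IsIso (adj.counit.app M)] {W : C} (q : G.obj M ⟶ W) :
    ∃ φ : M ⟶ F.obj W, G.map φ = q ≫ adj.unit.app W ∧ ∀ s : M ⟶ M, G.map s ≫ q = 0 → s ≫ φ = 0 := by
  have e : G.map (inv (adj.counit.app M)) = adj.unit.app (G.obj M) := by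
    rw [Functor.map_inv]
    exact IsIso.inv_eq_of_inv_hom_id (adj.right_triangle_components M)
  have e2 : G.map (inv (adj.counit.app M) ≫ F.map q) = q ≫ adj.unit.app W := by
    rw [Functor.map_comp, e]
    exact (adj.unit.naturality q).symm
  refine ⟨inv (adj.counit.app M) ≫ F.map q, e2, fun s hs => ?_⟩
  rw [← cancel_epi (adj.counit.app M), comp_zero]
  apply (adj.homEquiv _ _).injective
  rw [adj.homEquiv_unit, adj.homEquiv_unit, G.map_comp, G.map_comp, e2, ← Category.assoc (G.map s), hs,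
    zero_comp, G.map_zero]
  simp

variable {A : Type u} [CommRing A]

theorem exists_quot (N : ModuleCat.{u} A) (J : Ideal A) :
    ∃ (W : ModuleCat.{u} A) (q : N ⟶ W), ∀ x : N, q x = 0 ↔ x ∈ J • (⊤ : Submodule A N) :=
  ⟨ModuleCat.of A (N ⧸ (J • ⊤ : Submodule A N)), ModuleCat.ofHom (Submodule.mkQ _),
    fun _ => Submodule.Quotient.mk_eq_zero _⟩

theorem exists_lift_limit (Q : ℕᵒᵖ ⥤ ModuleCat.{u} A) (y : ∀ n, Q.obj (op n))
    (hy : ∀ n, (Q.map (homOfLE (Nat.le_succ n)).op).hom (y (n + 1)) = y n) :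
    ∃ x : (limit Q : ModuleCat A), ∀ n, (limit.π Q (op n)).hom x = y n := by
  let ψ : ∀ n, ModuleCat.of A A ⟶ Q.obj (op n) :=
    fun n => ModuleCat.ofHom (LinearMap.toSpanSingleton A _ (y n))
  have hψ : ∀ n, ψ (n + 1) ≫ Q.map (homOfLE (Nat.le_succ n)).op = ψ n := fun n =>
    ModuleCat.hom_ext (LinearMap.ext fun r => by
      simp only [ψ, ModuleCat.hom_comp, ModuleCat.hom_ofHom, LinearMap.comp_apply,
        LinearMap.toSpanSingleton_apply, map_smul]
      rw [hy n])
  let π' : (Functor.const ℕᵒᵖ).obj (ModuleCat.of A A) ⟶ Q :=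
    NatTrans.ofOpSequence ψ fun n => (Category.id_comp _).trans (hψ n).symm
  let c : Cone Q := { pt := ModuleCat.of A A, π := π' }
  refine ⟨limit.lift Q c (1 : A), fun n => ?_⟩
  refine (congr($(limit.lift_π c (op n)) (1 : A))).trans ?_
  exact one_smul A (y n)

/-- The kernels of the projections from the limit of a system of quotients. -/
theorem ker_limit_π_le (Q : ℕᵒᵖ ⥤ ModuleCat.{u} A) (I : Ideal A) (hfg : I.FG)
    (hsurj : ∀ n, Function.Surjective (Q.map (homOfLE (Nat.le_succ n)).op))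
    (hker : ∀ n, LinearMap.ker (Q.map (homOfLE (Nat.le_succ n)).op).hom = I ^ (n + 1) • (⊤ : Submodule A _))
    (n : ℕ) : LinearMap.ker (limit.π Q (op n)).hom ≤ I ^ (n + 1) • (⊤ : Submodule A _) := by
  refine ((Adic7.limit_quotient_system A I hfg (fun n => Q.obj (op n))
    (fun n => (Q.map (homOfLE (Nat.le_succ n)).op).hom) hsurj hker
    (limit Q : ModuleCat A) (fun n => (limit.π Q (op n)).hom) (fun n => ?_) (fun x hx => ?_)
    (fun y hy => ?_)).2.1 n).2.le
  · exact congrArg ModuleCat.Hom.hom (limit.w Q (homOfLE (Nat.le_succ n)).op)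
  · exact Concrete.limit_ext Q x 0 fun j => (hx j.unop).trans (map_zero _).symm
  · exact exists_lift_limit Q y hy

/-- The system of global sections. -/
noncomputable def secSys (G : ℕᵒᵖ ⥤ (Spec (CommRingCat.of A)).Modules) : ℕᵒᵖ ⥤ ModuleCat.{u} A :=
  G ⋙ moduleSpecΓFunctor (R := CommRingCat.of A)

theorem preservesZero_Γ : (moduleSpecΓFunctor (R := CommRingCat.of A)).PreservesZeroMorphisms :=
  haveI : (moduleSpecΓFunctor (R := CommRingCat.of A)).IsRightAdjoint := tilde.adjunction.isRightAdjoint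
  Functor.preservesZeroMorphisms_of_isRightAdjoint _

theorem isIso_unit : IsIso (tilde.adjunction (R := CommRingCat.of A)).unit :=
  (tilde.toTildeΓNatIso (R := CommRingCat.of A)).isIso_hom

theorem exists_map_Γ (M : (Spec (CommRingCat.of A)).Modules) (hM : Coh.IsQCoh M)
    (W : ModuleCat.{u} (CommRingCat.of A)) (q : (moduleSpecΓFunctor (R := CommRingCat.of A)).obj M ⟶ W) :
    ∃ φ : M ⟶ (tilde.functor (CommRingCat.of A)).obj W,
      (∀ x, (moduleSpecΓFunctor (R := CommRingCat.of A)).map φ x = 0 → q x = 0) ∧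
      ∀ s : M ⟶ M, (∀ x, q ((moduleSpecΓFunctor (R := CommRingCat.of A)).map s x) = 0) → s ≫ φ = 0 := by
  haveI := preservesZero_Γ (A := A)
  haveI := isIso_unit (A := A)
  haveI : IsIso ((tilde.adjunction (R := CommRingCat.of A)).counit.app M) :=
    isIso_fromTildeΓ_iff.mpr (QCoh.isQCoh_spec_iff.mp hM)
  obtain ⟨φ, h1, h2⟩ := exists_map_of_adjunction (tilde.adjunction (R := CommRingCat.of A)) M q
  refine ⟨φ, fun x hx => ?_, fun s hs => h2 s (ModuleCat.hom_ext (LinearMap.ext hs))⟩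
  apply (ConcreteCategory.bijective_of_isIso ((tilde.adjunction (R := CommRingCat.of A)).unit.app W)).1
  exact ((congr($h1 x)).symm.trans hx).trans (map_zero _).symm

variable {I : Ideal A} {G : ℕᵒᵖ ⥤ (Spec (CommRingCat.of A)).Modules}

theorem surjective_Γ (hG : @Formal.IsCohFormal A _ (Spec (CommRingCat.of A)) ⟨𝟙 _⟩ I G) (n : ℕ) :
    Function.Surjective ((secSys G).map (homOfLE (Nat.le_succ n)).op) := by
  letI : (Spec (CommRingCat.of A)).Over (Spec (CommRingCat.of A)) := ⟨𝟙 _⟩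
  haveI := epi_step hG n
  let g := G.map (homOfLE (Nat.le_succ n)).op
  have hS : (ShortComplex.mk (kernel.ι g) g (kernel.condition g)).ShortExact :=
    { exact := ShortComplex.exact_of_f_is_kernel _ (kernelIsKernel g) }
  exact QCoh.app_surjective_of_shortExact hS (QCoh.isQCoh_kernel (hG.1 _).1 (hG.1 _).1 g) (isAffineOpen_top _)

theorem ker_Γ (hG : @Formal.IsCohFormal A _ (Spec (CommRingCat.of A)) ⟨𝟙 _⟩ I G) (n : ℕ) :
    LinearMap.ker ((secSys G).map (homOfLE (Nat.le_succ n)).op).hom =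
      I ^ (n + 1) • (⊤ : Submodule A ((secSys G).obj (op (n + 1)))) := by
  letI : (Spec (CommRingCat.of A)).Over (Spec (CommRingCat.of A)) := ⟨𝟙 _⟩
  haveI := preservesZero_Γ (A := A)
  let Γ' := moduleSpecΓFunctor (R := CommRingCat.of A)
  refine le_antisymm ?_ (Submodule.smul_le.mpr fun a ha x _ => ?_)
  · obtain ⟨W, q, hq⟩ := exists_quot ((secSys G).obj (op (n + 1))) (I ^ (n + 1))
    have hs : ∀ (a : A) (x : (secSys G).obj (op (n + 1))),
        Γ'.map (Formal.smulMod A (G.obj (op (n + 1))) a) x = a • x := fun a x => rfl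
    obtain ⟨φ, hφ, hφ0⟩ := exists_map_Γ (G.obj (op (n + 1))) (hG.1 (n + 1)).1 W q
    have hx0 : ∀ a ∈ I ^ (n + 1), ∀ x : (secSys G).obj (op (n + 1)), q (a • x) = 0 := fun a ha x =>
      (hq _).mpr (Submodule.smul_mem_smul ha Submodule.mem_top)
    obtain ⟨ψ, hψ⟩ := IsQuot.desc (hG.2.2 n) φ (Sigma.hom_ext _ _ fun a => by
      rw [comp_zero, ← Category.assoc, Formal.smulFamily, Sigma.ι_desc]
      exact hφ0 _ fun x => (congrArg q (hs a x)).trans (hx0 a a.2 x))
    intro x hx
    have h0 : Γ'.map φ x = 0 := by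
      rw [← hψ, Functor.map_comp]
      change Γ'.map ψ (Γ'.map (G.map (homOfLE (Nat.le_succ n)).op) x) = 0
      have hx' : Γ'.map (G.map (homOfLE (Nat.le_succ n)).op) x = 0 := LinearMap.mem_ker.mp hx
      rw [hx', map_zero]
    exact (hq x).mp (hφ x h0)
  · rw [LinearMap.mem_ker, map_smul]
    have h := congrArg (fun t => Γ'.map t (Γ'.map (G.map (homOfLE (Nat.le_succ n)).op) x)) (hG.2.1 n a ha)
    rw [Functor.map_zero] at h
    exact h

theorem exists_ker_limit_π_le [IsNoetherianRing A] (U : (Spec (CommRingCat.of A)).Opens)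
    (G₀ : ℕᵒᵖ ⥤ (U : Scheme.{u}).Modules) (I : Ideal A) (h : Algz.CanonicallyExtends A I U G₀) (k : ℕ) :
    ∃ n : ℕ, LinearMap.ker (limit.π (Algz.sectMod A U G₀) (op n)).hom ≤
      I ^ k • (⊤ : Submodule A ↑(limit (Algz.sectMod A U G₀))) := by
  obtain ⟨G', hG', hpro⟩ := h
  let θ : Algz.sectMod A U G₀ ≅ Algz.sectSys A U G₀ ⋙ moduleSpecΓFunctor (R := CommRingCat.of A) :=
    (Functor.rightUnitor _).symm ≪≫
      Functor.isoWhiskerLeft _ (tilde.toTildeΓNatIso (R := CommRingCat.of A)) ≪≫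
      (Functor.associator _ _ _).symm
  obtain ⟨m, hm, hle, a, ha⟩ :=
    isProIsomorphic_comp (moduleSpecΓFunctor (R := CommRingCat.of A)) θ hpro
  obtain ⟨e, he⟩ := exists_limit_iso hle a ha
  refine ⟨m k, fun x hx => ?_⟩
  have h0 : limit.π (secSys G') (op k) (e.hom x) = 0 := by
    let a' : (Algz.sectMod A U G₀).obj (op (m k)) ⟶ (secSys G').obj (op k) := a.app (op k)
    refine (congr($(he k) x)).trans ?_
    exact (congrArg a' (LinearMap.mem_ker.mp hx)).trans (map_zero a'.hom)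
  have h1 := ker_limit_π_le (secSys G') I (IsNoetherian.noetherian I) (surjective_Γ hG') (ker_Γ hG') k h0
  have h2 := Submodule.mem_map_of_mem (f := e.inv.hom) h1
  have h2' : e.inv.hom (e.hom x) ∈ I ^ (k + 1) • Submodule.map e.inv.hom ⊤ :=
    (Submodule.map_smul'' (I ^ (k + 1)) ⊤ e.inv.hom) ▸ h2
  have h3 : e.inv.hom (e.hom x) = x := congr($(e.hom_inv_id) x)
  exact Submodule.smul_mono (Ideal.pow_le_pow_right (Nat.le_succ k)) le_top (h3 ▸ h2')

end Groth.Agent.Algz7
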