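import Mathlib
import Groth.Agent.Algz7.Sections
import Groth.Agent.Algz7.Completion
import Groth.Agent.Adic7.LimitFinite

/-! Quotients of `M~` by powers of an ideal, detected on global sections. -/

set_option autoImplicit false
universe u

open CategoryTheory CategoryTheory.Limits AlgebraicGeometry Opposite

namespace Groth.Agent.Algz7

variable {A : Type u} [CommRing A]

local notation "SpecA" => Spec (CommRingCat.of A)

theorem isIso_counit {N : (SpecA).Modules} (hN : Coh.IsQCoh N) :
    IsIso ((tilde.adjunction (R := CommRingCat.of A)).counit.app N) :=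
  isIso_fromTildeΓ_iff.mpr (QCoh.isQCoh_spec_iff.mp hN)

theorem exists_factor {M W V : ModuleCat.{u} A} (q : M ⟶ W) (hs : Function.Surjective q) (φ : M ⟶ V)
    (hker : LinearMap.ker q.hom ≤ LinearMap.ker φ.hom) : ∃ ψ : W ⟶ V, q ≫ ψ = φ := by
  refine ⟨ModuleCat.ofHom (((LinearMap.ker q.hom).liftQ φ.hom hker).comp
    (LinearMap.quotKerEquivOfSurjective q.hom hs).symm.toLinearMap), ?_⟩
  refine ModuleCat.hom_ext (LinearMap.ext fun x => ?_)
  have e : (LinearMap.quotKerEquivOfSurjective q.hom hs).symm (q.hom x) = Submodule.Quotient.mk x :=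
    (LinearEquiv.symm_apply_eq _).mpr rfl
  exact (congrArg ((LinearMap.ker q.hom).liftQ φ.hom hker) e).trans rfl

/-- Maps out of a quasi-coherent module are determined by global sections. -/
theorem hom_ext_of_Γ {N P : (SpecA).Modules} (hN : Coh.IsQCoh N) {s t : N ⟶ P}
    (h : (moduleSpecΓFunctor (R := CommRingCat.of A)).map s = (moduleSpecΓFunctor (R := CommRingCat.of A)).map t) :
    s = t := by
  haveI := isIso_counit hN
  rw [← cancel_epi ((tilde.adjunction (R := CommRingCat.of A)).counit.app N)]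
  apply ((tilde.adjunction (R := CommRingCat.of A)).homEquiv _ _).injective
  rw [Adjunction.homEquiv_unit, Adjunction.homEquiv_unit, Functor.map_comp, Functor.map_comp, h]

theorem killedBy_of_Γ {N : (SpecA).Modules} (hN : Coh.IsQCoh N) {J : Ideal A}
    (h : ∀ a ∈ J, ∀ x : (moduleSpecΓFunctor (R := CommRingCat.of A)).obj N, a • x = 0) :
    @Formal.KilledBy A _ (SpecA) ⟨𝟙 _⟩ J N := by
  intro a ha
  haveI := preservesZero_Γ (A := A)
  refine hom_ext_of_Γ hN ?_
  rw [Functor.map_zero]
  exact ModuleCat.hom_ext (LinearMap.ext fun x => h a ha x)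

theorem smul_eq_zero_of_killedBy {N : (SpecA).Modules} {J : Ideal A}
    (h : @Formal.KilledBy A _ (SpecA) ⟨𝟙 _⟩ J N) {a : A} (ha : a ∈ J)
    (x : (moduleSpecΓFunctor (R := CommRingCat.of A)).obj N) : a • x = 0 := by
  haveI := preservesZero_Γ (A := A)
  have e := congrArg (fun t => (moduleSpecΓFunctor (R := CommRingCat.of A)).map t x) (h a ha)
  rw [Functor.map_zero] at e
  exact e

/-- A surjection `M → Γ(N)` with kernel `J M` makes `N` the quotient `M~ / J M~`. -/
theorem isQuot_of_Γ {J : Ideal A} (M : ModuleCat.{u} (CommRingCat.of A)) (N : (SpecA).Modules)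
    (hN : Coh.IsQCoh N) (q : M ⟶ (moduleSpecΓFunctor (R := CommRingCat.of A)).obj N)
    (hs : Function.Surjective q) (hk : LinearMap.ker q.hom = J • (⊤ : Submodule A M)) :
    @IsQuot A _ (SpecA) ⟨𝟙 _⟩ J _ _ (((tilde.adjunction (R := CommRingCat.of A)).homEquiv M N).symm q) := by
  letI : (SpecA).Over (SpecA) := ⟨𝟙 _⟩
  haveI := isIso_counit hN
  haveI := preservesZero_Γ (A := A)
  haveI : (tilde.functor (CommRingCat.of A)).IsLeftAdjoint := tilde.adjunction.isLeftAdjoint
  let Γ' := moduleSpecΓFunctor (R := CommRingCat.of A)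
  let adj := tilde.adjunction (R := CommRingCat.of A)
  haveI : Epi q := (ModuleCat.epi_iff_surjective q).mpr hs
  haveI h1 : Epi (((adj).homEquiv M N).symm q) := by
    rw [Adjunction.homEquiv_counit]
    exact @epi_comp _ _ _ _ _ _ ((tilde.functor (CommRingCat.of A)).map_epi q) _ inferInstance
  refine IsQuot.mk' _ (killedBy_of_Γ hN fun a ha x => ?_) fun {P} φ hφ => ?_
  · obtain ⟨y, rfl⟩ := hs x
    rw [← map_smul]
    exact LinearMap.mem_ker.mp (hk.ge (Submodule.smul_mem_smul ha Submodule.mem_top))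
  · have hker : LinearMap.ker q.hom ≤ LinearMap.ker (adj.homEquiv M P φ).hom := by
      rw [hk, Submodule.smul_le]
      intro a ha x _
      rw [LinearMap.mem_ker, map_smul, Adjunction.homEquiv_unit]
      have hs0 := congrArg (fun t => Γ'.map t (adj.unit.app M x)) (smulMod_comp_eq_zero hφ ha)
      rw [Functor.map_comp, Functor.map_zero] at hs0
      change a • Γ'.map φ (adj.unit.app M x) = 0
      rw [← map_smul]
      exact hs0
    have hex : ∃ ψ' : Γ'.obj N ⟶ Γ'.obj P, q ≫ ψ' = adj.homEquiv M P φ := exists_factor q hs _ hker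
    obtain ⟨ψ', hψ'⟩ := hex
    refine ⟨inv (adj.counit.app N) ≫ (adj.homEquiv _ _).symm ψ', ?_⟩
    have e : (adj.homEquiv M N).symm q ≫ inv (adj.counit.app N) = (tilde.functor _).map q := by
      rw [Adjunction.homEquiv_counit, Category.assoc, IsIso.hom_inv_id, Category.comp_id]
    rw [← Category.assoc, e, ← Adjunction.homEquiv_naturality_left_symm, hψ', Equiv.symm_apply_apply]

theorem isCoh_tilde (M : ModuleCat.{u} (CommRingCat.of A)) [Module.Finite A M] :
    Coh.IsCoh ((tilde.functor (CommRingCat.of A)).obj M) :=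
  ⟨inferInstanceAs (tilde M).IsQuasicoherent, (QCoh.isFT_tilde_iff (R := CommRingCat.of A) M).mpr ‹_›⟩

theorem finite_Γ_of_isCoh [IsNoetherianRing A] {N : (SpecA).Modules} (hN : Coh.IsCoh N) :
    Module.Finite A ((moduleSpecΓFunctor (R := CommRingCat.of A)).obj N) :=
  (QCoh.isFT_iff_finite (R := CommRingCat.of A) N hN.1).mp hN.2

variable [IsNoetherianRing A] {I : Ideal A}

theorem exists_limit_algebraization [IsAdicComplete I A] {G : ℕᵒᵖ ⥤ (SpecA).Modules}
    (hG : @Formal.IsCohFormal A _ (SpecA) ⟨𝟙 _⟩ I G) :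
    ∃ M : (SpecA).Modules, Coh.IsCoh M ∧
      Nonempty (@Formal.completion A _ (SpecA) ⟨𝟙 _⟩ I M ≅ G) := by
  letI : (SpecA).Over (SpecA) := ⟨𝟙 _⟩
  let Q := secSys G
  haveI : Module.Finite A (Q.obj (op 0)) := finite_Γ_of_isCoh (hG.1 0)
  have hk : ∀ n, I ^ (n + 1) • (⊤ : Submodule A (Q.obj (op n))) = ⊥ := fun n =>
    le_bot_iff.mp (Submodule.smul_le.mpr fun a ha x _ => (Submodule.mem_bot A).mpr
      (smul_eq_zero_of_killedBy (hG.2.1 n) ha x))
  obtain ⟨hfin, -, hπ⟩ := Adic7.limit_finite I (M := fun n => Q.obj (op n))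
    (f := fun n => (Q.map (homOfLE (Nat.le_succ n)).op).hom) (surjective_Γ hG) hk (ker_Γ hG)
    (L := (limit Q : ModuleCat A)) (π := fun n => (limit.π Q (op n)).hom)
    (fun n => congrArg ModuleCat.Hom.hom (limit.w Q (homOfLE (Nat.le_succ n)).op))
    (fun x hx => Concrete.limit_ext Q x 0 fun j => (hx j.unop).trans (map_zero _).symm)
    (exists_lift_limit Q)
  let L : ModuleCat.{u} (CommRingCat.of A) := limit Q
  haveI : Module.Finite A L := hfin
  refine ⟨(tilde.functor (CommRingCat.of A)).obj L, isCoh_tilde L, ?_⟩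
  exact nonempty_iso_of_isQuot (Iso.refl _) (fun n => Formal.modPowπ I (n + 1) _)
    (fun n => ((tilde.adjunction (R := CommRingCat.of A)).homEquiv L (G.obj (op n))).symm (limit.π Q (op n)))
    (fun n => isQuot_modPowπ I (n + 1) _)
    (fun n => isQuot_of_Γ L _ (hG.1 n).1 _ (hπ n).1 (hπ n).2)
    (fun n => by rw [completion_map_succ]; exact Formal.modPowπ_trans I (n + 1) _)
    (fun n => ((tilde.adjunction (R := CommRingCat.of A)).homEquiv_naturality_right_symm _ _).symm.trans
      (congrArg _ (limit.w Q (homOfLE (Nat.le_succ n)).op)))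

end Groth.Agent.Algz7
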