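import Mathlib
import Groth.Agent.Algz7.Tilde
import Groth.Prelude.Def_Formal2

/-! A criterion for canonical extension: Mittag-Leffler + adic kernels + finiteness. -/

set_option autoImplicit false
universe u

open CategoryTheory CategoryTheory.Limits AlgebraicGeometry Opposite

namespace Groth.Agent.Algz7

variable {A : Type u} [CommRing A]

theorem range_le_of_imageSubobject_le {P Q R : ModuleCat.{u} A} (f : P ⟶ R) (g : Q ⟶ R)
    (h : imageSubobject f ≤ imageSubobject g) : LinearMap.range f.hom ≤ LinearMap.range g.hom := by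
  let q : R ⟶ ModuleCat.of A (R ⧸ LinearMap.range g.hom) := ModuleCat.ofHom (Submodule.mkQ _)
  have hg : g ≫ q = 0 := ModuleCat.hom_ext (LinearMap.ext fun x =>
    (Submodule.Quotient.mk_eq_zero _).mpr (LinearMap.mem_range_self g.hom x))
  have h1 : (imageSubobject g).arrow ≫ q = 0 := by
    rw [← cancel_epi (factorThruImageSubobject g), ← Category.assoc, imageSubobject_arrow_comp, hg, comp_zero]
  have hf : f ≫ q = 0 := by
    rw [← imageSubobject_arrow_comp f, ← Subobject.ofLE_arrow h, Category.assoc, Category.assoc, h1,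
      comp_zero, comp_zero]
  rintro _ ⟨x, rfl⟩
  exact (Submodule.Quotient.mk_eq_zero _).mp (congr($hf x))

/-- Under Mittag-Leffler, stable images consist of projections of elements of the limit. -/
theorem exists_le_forall_exists_π_eq (X : ℕᵒᵖ ⥤ ModuleCat.{u} A) (hX : ARSys.IsML X) (n : ℕ) :
    ∃ (N : ℕ) (hN : n ≤ N), ∀ z : X.obj (op N),
      ∃ y : (limit X : ModuleCat A), limit.π X (op n) y = ARSys.tr X hN z := by
  classical
  choose r hr using hX
  have trX : ∀ {p q s : ℕ} (h₁ : p ≤ q) (h₂ : q ≤ s) (z : X.obj (op s)),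
      ARSys.tr X h₁ (ARSys.tr X h₂ z) = ARSys.tr X (h₁.trans h₂) z := fun h₁ h₂ z =>
    congr($((X.map_comp (homOfLE h₂).op (homOfLE h₁).op).symm) z)
  let E : ∀ p, Submodule A (X.obj (op p)) := fun p => LinearMap.range (ARSys.tr X (Nat.le_add_right p (r p))).hom
  have hE : ∀ (p j : ℕ) (h : p ≤ j), p + r p ≤ j → LinearMap.range (ARSys.tr X h).hom = E p := by
    intro p j h hj
    obtain ⟨s, rfl⟩ := Nat.exists_eq_add_of_le h
    have e := hr p s (by omega)
    exact le_antisymm (range_le_of_imageSubobject_le _ _ e.le) (range_le_of_imageSubobject_le _ _ e.ge)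
  have hstep : ∀ p, ∀ z ∈ E p, ∃ w ∈ E (p + 1), ARSys.tr X (Nat.le_succ p) w = z := by
    intro p z hz
    let j := max (p + 1 + r (p + 1)) (p + r p)
    have hj1 : p + 1 ≤ j := le_max_of_le_left (Nat.le_add_right _ _)
    have hj : p ≤ j := le_of_lt hj1
    rw [← hE p j hj (le_max_right _ _)] at hz
    obtain ⟨v, hv⟩ := hz
    refine ⟨ARSys.tr X hj1 v, ?_, (trX (Nat.le_succ p) hj1 v).trans hv⟩
    rw [← hE (p + 1) j hj1 (le_max_left _ _)]
    exact ⟨v, rfl⟩
  choose up hup hup' using hstep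
  refine ⟨n + r n, Nat.le_add_right _ _, fun z => ?_⟩
  let Y : ∀ d, E (n + d) := fun d =>
    Nat.rec (motive := fun d => E (n + d)) ⟨ARSys.tr X (Nat.le_add_right n (r n)) z, ⟨z, rfl⟩⟩
      (fun d w => ⟨up (n + d) w.1 w.2, hup (n + d) w.1 w.2⟩) d
  have hY : ∀ d, ARSys.tr X (Nat.le_succ (n + d)) (Y (d + 1)).1 = (Y d).1 := fun d => hup' (n + d) _ _
  have hY0 : ∀ d, ARSys.tr X (Nat.le_add_right n d) (Y d).1 = ARSys.tr X (Nat.le_add_right n (r n)) z := by
    intro d
    induction d with
    | zero => exact congr($(X.map_id (op n)) _)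
    | succ d ih => rw [← ih, ← hY d, trX]
  let y : ∀ j, X.obj (op j) := fun j => ARSys.tr X (Nat.le_add_left j n) (Y j).1
  obtain ⟨x, hx⟩ := exists_lift_limit X y fun j => by
    change ARSys.tr X (Nat.le_succ j) (ARSys.tr X (Nat.le_add_left (j + 1) n) (Y (j + 1)).1) = y j
    rw [trX]
    simp only [y, ← hY j, trX]
  exact ⟨x, (hx n).trans (hY0 n)⟩

theorem exists_map_to_quot {L W V : ModuleCat.{u} A} (p : L ⟶ W) (f : V ⟶ W) (J : Submodule A L)
    (hf : ∀ z, ∃ y, p y = f z) (hp : LinearMap.ker p.hom ≤ J) :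
    ∃ a : V ⟶ ModuleCat.of A (L ⧸ J), ∀ z y, p y = f z → a z = Submodule.Quotient.mk y := by
  let e := p.hom.quotKerEquivRange
  let a : V →ₗ[A] L ⧸ J := (Submodule.factor hp).comp
    (e.symm.toLinearMap.comp (f.hom.codRestrict (LinearMap.range p.hom) fun z => hf z))
  refine ⟨ModuleCat.ofHom a, fun z y h => ?_⟩
  have : e (Submodule.Quotient.mk y) = f.hom.codRestrict (LinearMap.range p.hom) (fun z => hf z) z :=
    Subtype.ext h
  change Submodule.factor hp (e.symm (f.hom.codRestrict (LinearMap.range p.hom) (fun z => hf z) z)) = _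
  rw [← this, LinearEquiv.symm_apply_apply]
  rfl

/-- The system `n ↦ L / I^(n+1) L`. -/
noncomputable def qSys (I : Ideal A) (L : ModuleCat.{u} A) : ℕᵒᵖ ⥤ ModuleCat.{u} A :=
  Functor.ofOpSequence (X := fun n => ModuleCat.of A (Formal2.quotPow A I L n))
    (fun n => ModuleCat.ofHom (Formal2.quotPowTrans A I L n))

theorem qSys_map (I : Ideal A) (L : ModuleCat.{u} A) {i j : ℕ} (h : i ≤ j) (y : L) :
    ARSys.tr (qSys I L) h (Submodule.Quotient.mk y) = Submodule.Quotient.mk y := by
  induction j, h using Nat.le_induction with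
  | base => exact congr($((qSys I L).map_id (op i)) _)
  | succ j hj ih =>
    have e : (qSys I L).map (homOfLE (Nat.le_succ j)).op = ModuleCat.ofHom (Formal2.quotPowTrans A I L j) :=
      Functor.ofOpSequence_map_homOfLE_succ _ j
    have h1 : (qSys I L).map (homOfLE (Nat.le_succ j)).op (Submodule.Quotient.mk y) = Submodule.Quotient.mk y := by
      rw [e]; rfl
    refine Eq.trans (congr($((qSys I L).map_comp (homOfLE (Nat.le_succ j)).op (homOfLE hj).op) _)) ?_
    exact (congrArg (ARSys.tr (qSys I L) hj) h1).trans ih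

theorem isProIsomorphic_qSys (I : Ideal A) (X : ℕᵒᵖ ⥤ ModuleCat.{u} A) (hX : ARSys.IsML X)
    (hk : ∀ n, ∀ a ∈ I ^ (n + 1), ∀ x : X.obj (op n), a • x = 0)
    (hb : ∀ k : ℕ, ∃ n : ℕ, LinearMap.ker (limit.π X (op n)).hom ≤ I ^ k • (⊤ : Submodule A ↑(limit X))) :
    Algz.IsProIsomorphic X (qSys I (limit X)) := by
  classical
  have trX : ∀ {p q s : ℕ} (h₁ : p ≤ q) (h₂ : q ≤ s) (z : X.obj (op s)),
      ARSys.tr X h₁ (ARSys.tr X h₂ z) = ARSys.tr X (h₁.trans h₂) z := fun h₁ h₂ z =>
    congr($((X.map_comp (homOfLE h₂).op (homOfLE h₁).op).symm) z)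
  have trπ : ∀ {p q : ℕ} (h : p ≤ q) (y : (limit X : ModuleCat A)),
      ARSys.tr X h (limit.π X (op q) y) = limit.π X (op p) y := fun h y =>
    congr($(limit.w X (homOfLE h).op) y)
  have hanti : ∀ {p q : ℕ}, p ≤ q → LinearMap.ker (limit.π X (op q)).hom ≤ LinearMap.ker (limit.π X (op p)).hom :=
    fun h y hy => LinearMap.mem_ker.mpr (((trπ h y).symm.trans (congrArg _ (LinearMap.mem_ker.mp hy))).trans (map_zero _))
  choose N0 hN0 using fun n => hb (n + 1)
  choose R hR0 hR using exists_le_forall_exists_π_eq X hX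
  let N : ℕ → ℕ := fun n => (Finset.range (n + 1)).sup fun i => max i (N0 i)
  have hNmono : Monotone N := fun i j h => Finset.sup_mono (Finset.range_mono (Nat.succ_le_succ h))
  have hNle : ∀ n, max n (N0 n) ≤ N n := fun n =>
    Finset.le_sup (f := fun i => max i (N0 i)) (Finset.self_mem_range_succ n)
  let m : ℕ → ℕ := fun n => (Finset.range (n + 1)).sup fun i => R (N i)
  have hm : Monotone m := fun i j h => Finset.sup_mono (Finset.range_mono (Nat.succ_le_succ h))
  have hmR : ∀ n, R (N n) ≤ m n := fun n => Finset.le_sup (f := fun i => R (N i)) (Finset.self_mem_range_succ n)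
  have hNm : ∀ n, N n ≤ m n := fun n => (hR0 (N n)).trans (hmR n)
  have hle : ∀ n, n ≤ m n := fun n => ((le_max_left _ _).trans (hNle n)).trans (hNm n)
  have hker : ∀ n, LinearMap.ker (limit.π X (op (N n))).hom ≤ I ^ (n + 1) • (⊤ : Submodule A ↑(limit X)) :=
    fun n => (hanti ((le_max_right _ _).trans (hNle n))).trans (hN0 n)
  have hlift : ∀ n, ∀ z : X.obj (op (m n)), ∃ y : (limit X : ModuleCat A),
      limit.π X (op (N n)) y = ARSys.tr X (hNm n) z := fun n z => by
    obtain ⟨y, hy⟩ := hR (N n) (ARSys.tr X (hmR n) z)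
    exact ⟨y, hy.trans (trX _ _ z)⟩
  choose a ha using fun n => exists_map_to_quot (limit.π X (op (N n))) (ARSys.tr X (hNm n))
    (I ^ (n + 1) • (⊤ : Submodule A ↑(limit X))) (hlift n) (hker n)
  have hnat : ∀ (i j : ℕ) (h : i ≤ j), ARSys.tr X (hm h) ≫ a i = a j ≫ ARSys.tr (qSys I (limit X)) h := by
    intro i j h
    refine ModuleCat.hom_ext (LinearMap.ext fun z => ?_)
    obtain ⟨y, hy⟩ := hlift j z
    change a i (ARSys.tr X (hm h) z) = ARSys.tr (qSys I (limit X)) h (a j z)
    rw [ha j z y hy]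
    refine (ha i _ y ?_).trans (qSys_map I (limit X) h y).symm
    rw [← trπ (hNmono h) y, hy, trX, trX]
  refine ⟨m, hm, hle, { app := fun n => a n.unop, naturality := fun p q f => hnat q.unop p.unop (leOfHom f.unop) },
    fun n => ⟨m n, hle n, ?_⟩⟩
  have hkill : I ^ (m n + 1) • (⊤ : Submodule A ↑(limit X)) ≤ LinearMap.ker (limit.π X (op (m n))).hom :=
    Submodule.smul_le.mpr fun r hr x _ => by
      rw [LinearMap.mem_ker, map_smul]
      exact hk (m n) r hr _
  let b : ModuleCat.of A (Formal2.quotPow A I ↑(limit X) (m n)) ⟶ X.obj (op (m n)) :=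
    ModuleCat.ofHom ((I ^ (m n + 1) • (⊤ : Submodule A ↑(limit X))).liftQ (limit.π X (op (m n))).hom hkill)
  refine ⟨b, ?_, ?_⟩
  · refine ModuleCat.hom_ext (LinearMap.ext fun z => ?_)
    obtain ⟨y, hy⟩ := hlift (m n) z
    have hmn : m n ≤ N (m n) := (le_max_left _ _).trans (hNle (m n))
    change b (a (m n) z) = ARSys.tr X (hm (hle n)) z
    rw [ha (m n) z y hy]
    change limit.π X (op (m n)) y = _
    rw [← trπ hmn y, hy]
    exact trX _ _ z
  · refine ModuleCat.hom_ext (LinearMap.ext fun z => ?_)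
    obtain ⟨y, rfl⟩ := Submodule.Quotient.mk_surjective _ z
    change a n (limit.π X (op (m n)) y) = ARSys.tr (qSys I (limit X)) (hle n) (Submodule.Quotient.mk y)
    rw [qSys_map]
    exact ha n _ y (trπ (hNm n) y).symm

theorem isQuot_tilde_map {J : Ideal A} {M W : ModuleCat.{u} (CommRingCat.of A)} (q : M ⟶ W)
    (hs : Function.Surjective q) (hk : LinearMap.ker q.hom = J • (⊤ : Submodule A M)) :
    @IsQuot A _ (Spec (CommRingCat.of A)) ⟨𝟙 _⟩ J _ _ ((tilde.functor (CommRingCat.of A)).map q) := by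
  haveI := isIso_unit (A := A)
  let adj := tilde.adjunction (R := CommRingCat.of A)
  have hbij := ConcreteCategory.bijective_of_isIso (adj.unit.app W)
  have h := isQuot_of_Γ M ((tilde.functor (CommRingCat.of A)).obj W) (inferInstanceAs (tilde W).IsQuasicoherent)
    (q ≫ adj.unit.app W) (hbij.2.comp hs) (le_antisymm
      (fun x hx => hk.le (LinearMap.mem_ker.mpr (hbij.1 ((LinearMap.mem_ker.mp hx).trans (map_zero _).symm))))
      (fun x hx => LinearMap.mem_ker.mpr ((congrArg (adj.unit.app W) (LinearMap.mem_ker.mp (hk.ge hx))).trans (map_zero (adj.unit.app W).hom))))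
  rwa [Adjunction.homEquiv_naturality_left_symm, Adjunction.homEquiv_counit, adj.left_triangle_components,
    Category.comp_id] at h

theorem ker_quotPowTrans (I : Ideal A) (L : Type u) [AddCommGroup L] [Module A L] (n : ℕ) :
    LinearMap.ker (Formal2.quotPowTrans A I L n) = I ^ (n + 1) • (⊤ : Submodule A (Formal2.quotPow A I L (n + 1))) := by
  have h := Submodule.map_smul'' (I ^ (n + 1)) (⊤ : Submodule A L) (I ^ (n + 1 + 1) • (⊤ : Submodule A L)).mkQ
  rw [Submodule.map_top, Submodule.range_mkQ] at h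
  rw [← h, Formal2.quotPowTrans, Submodule.mapQ, Submodule.ker_liftQ, LinearMap.ker_comp, Submodule.ker_mkQ,
    Submodule.comap_id]

theorem isCohFormal_qSys (I : Ideal A) (L : ModuleCat.{u} A)
    (hfin : ∀ n, Module.Finite A (Formal2.quotPow A I L n)) :
    @Formal.IsCohFormal A _ (Spec (CommRingCat.of A)) ⟨𝟙 _⟩ I
      (qSys I L ⋙ tilde.functor (CommRingCat.of A)) := by
  haveI := isIso_unit (A := A)
  refine ⟨fun n => ?_, fun n => ?_, fun n => ?_⟩
  · exact @isCoh_tilde A _ ((qSys I L).obj (op n)) (hfin n)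
  · refine killedBy_of_Γ (inferInstanceAs (tilde (R := CommRingCat.of A) ((qSys I L).obj (op n))).IsQuasicoherent) fun a ha x => ?_
    obtain ⟨z, rfl⟩ := (ConcreteCategory.bijective_of_isIso
      ((tilde.adjunction (R := CommRingCat.of A)).unit.app ((qSys I L).obj (op n)))).2 x
    obtain ⟨y, rfl⟩ := Submodule.Quotient.mk_surjective (I ^ (n + 1) • (⊤ : Submodule A L)) z
    have h0 : a • (Submodule.Quotient.mk y : Formal2.quotPow A I L n) = 0 :=
      (Submodule.Quotient.mk_eq_zero _).mpr (Submodule.smul_mem_smul ha Submodule.mem_top)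
    refine (map_smul ((tilde.adjunction (R := CommRingCat.of A)).unit.app ((qSys I L).obj (op n))).hom a _).symm.trans ?_
    exact (congrArg _ h0).trans (map_zero _)
  · change @IsQuot A _ _ ⟨𝟙 _⟩ (I ^ (n + 1)) _ _ ((tilde.functor (CommRingCat.of A)).map ((qSys I L).map (homOfLE (Nat.le_succ n)).op))
    have e : (qSys I L).map (homOfLE (Nat.le_succ n)).op = ModuleCat.ofHom (Formal2.quotPowTrans A I L n) :=
      Functor.ofOpSequence_map_homOfLE_succ _ n
    rw [e]
    refine isQuot_tilde_map _ (fun z => ?_) (ker_quotPowTrans I L n)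
    obtain ⟨y, rfl⟩ := Submodule.Quotient.mk_surjective _ z
    exact ⟨Submodule.Quotient.mk y, rfl⟩

theorem smul_sect_eq_zero (U : (Spec (CommRingCat.of A)).Opens) (N : (U : Scheme.{u}).Modules) {J : Ideal A}
    (hN : Formal.KilledBy J N) {a : A} (ha : a ∈ J)
    (x : (moduleSpecΓFunctor (R := CommRingCat.of A)).obj ((Scheme.Modules.pushforward U.ι).obj N)) :
    a • x = 0 := by
  haveI := preservesZero_Γ (A := A)
  haveI : (Scheme.Modules.pushforward U.ι).PreservesZeroMorphisms := inferInstance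
  have e := congrArg (fun t => (moduleSpecΓFunctor (R := CommRingCat.of A)).map
    ((Scheme.Modules.pushforward U.ι).map t) x) (hN a ha)
  rw [Functor.map_zero, Functor.map_zero] at e
  exact e

theorem canonicallyExtends_of_isML [IsNoetherianRing A] (I : Ideal A) (U : (Spec (CommRingCat.of A)).Opens)
    (G : ℕᵒᵖ ⥤ (U : Scheme.{u}).Modules) (hG : Formal.IsCohFormal I G)
    (ha : ARSys.IsML (Algz.sectMod A U G))
    (hb : ∀ k : ℕ, ∃ n : ℕ, LinearMap.ker (limit.π (Algz.sectMod A U G) (op n)).hom ≤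
      I ^ k • (⊤ : Submodule A ↑(limit (Algz.sectMod A U G))))
    (hc : ∀ n : ℕ, Module.Finite A ↥(LinearMap.range (limit.π (Algz.sectMod A U G) (op n)).hom)) :
    Algz.CanonicallyExtends A I U G := by
  let X := Algz.sectMod A U G
  refine ⟨qSys I (limit X) ⋙ tilde.functor (CommRingCat.of A), isCohFormal_qSys I (limit X) fun n => ?_,
    isProIsomorphic_comp _ (Iso.refl _)
      (isProIsomorphic_qSys I X ha (fun n a ha x => smul_sect_eq_zero U _ (hG.2.1 n) ha x) hb)⟩
  obtain ⟨N, hN⟩ := hb (n + 1)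
  haveI := hc N
  have hs : Function.Surjective (Submodule.factor hN) := Submodule.factor_surjective hN
  exact Module.Finite.of_surjective
    ((Submodule.factor hN).comp (limit.π X (op N)).hom.quotKerEquivRange.symm.toLinearMap)
    (hs.comp (limit.π X (op N)).hom.quotKerEquivRange.symm.surjective)

end Groth.Agent.Algz7
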