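import Groth.Agent.Algz7.DeltaZ
import Groth.Agent.DimFormula.Scheme
import Groth.Agent.FibDim.Minimal
import Groth.Agent.FibDim.Semicont

/-!
# The distance function along a morphism of finite type over a universally catenary base
-/

noncomputable section

namespace Groth.Agent.Algz7

universe u

open AlgebraicGeometry CategoryTheory Algz Order

/-- `codimPt` on a scheme is the codimension `cd`. -/
theorem codimPt_eq_cd {X : Scheme.{u}} [IsLocallyNoetherian X] {w v : X} (h : w ⤳ v) :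
    codimPt w v h = (DimFormula.cd w v : ℕ∞) := by
  apply WithBot.coe_injective
  refine (Order.height_eq_krullDim_Iic _).trans (Eq.trans ?_ (DimFormula.coe_cd h))
  exact Order.krullDim_eq_of_orderIso
    { toFun := fun x => ⟨Specialization.ofEquiv x.1.1, x.1.2, x.2⟩
      invFun := fun x => ⟨⟨Specialization.toEquiv x.1, x.2.1⟩, x.2.2⟩
      left_inv := fun _ => rfl
      right_inv := fun _ => rfl
      map_rel_iff' := Iff.rfl }

theorem sum_ge_eq {k : ℕ} (g : Fin (k + 1) → ℕ) (i : ℕ) (hi : i ≤ k) :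
    (∑ j : Fin (k + 1), if i ≤ j.val then g j else 0) =
      g ⟨i, Nat.lt_succ_of_le hi⟩ + ∑ j : Fin k, if i ≤ j.val then g j.succ else 0 := by
  have e : ∀ j : Fin (k + 1), (if i ≤ j.val then g j else 0) =
      (if j = ⟨i, Nat.lt_succ_of_le hi⟩ then g j else 0) + (if i < j.val then g j else 0) := by
    intro j
    by_cases h1 : j = ⟨i, Nat.lt_succ_of_le hi⟩
    · subst h1; simp
    · have : j.val ≠ i := fun h => h1 (Fin.ext h)
      rw [if_neg h1, zero_add]
      exact if_congr ⟨fun h => lt_of_le_of_ne h this.symm, le_of_lt⟩ rfl rfl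
  rw [Finset.sum_congr rfl fun j _ => e j, Finset.sum_add_distrib, Finset.sum_ite_eq' Finset.univ _ g,
    if_pos (Finset.mem_univ _), Fin.sum_univ_succ (fun j : Fin (k + 1) => if i < j.val then g j else 0)]
  simp [Nat.lt_succ_iff]

theorem deltaZ_add_le_preimage_add {Y Y' : Scheme.{u}} [IsLocallyNoetherian Y]
    (hY : ∀ y : Y, CAlg.IsUniversallyCatenary (Y.presheaf.stalk y)) (f : Y' ⟶ Y) [LocallyOfFiniteType f]
    (Z : Set Y) (e : ℕ) (he : ∀ x, FibDim.rd f x ≤ e) (y' : Y') :
    deltaZ Z (f y') + FibDim.rd f y' ≤ deltaZ (f ⁻¹' Z) y' + e := by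
  haveI := LocallyOfFiniteType.isLocallyNoetherian f
  rcases eq_or_ne (deltaZ (f ⁻¹' Z) y') ⊤ with hd | hd
  · rw [hd, top_add]; exact le_top
  obtain ⟨n, hn⟩ := ENat.ne_top_iff_exists.mp hd
  obtain ⟨k, S, hS⟩ := exists_system hn.symm
  obtain ⟨M, hM, hb⟩ := le_delta S
  have hMtop : M ≠ ⊤ := by
    rintro rfl
    rw [hM, add_top, top_le_iff] at hS
    exact ENat.coe_ne_top n hS
  obtain ⟨m, rfl⟩ := ENat.ne_top_iff_exists.mp hMtop
  have hkm : k + m ≤ n := by rw [hM] at hS; exact_mod_cast hS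
  let S₀ : DSystem Z (f y') k :=
    { v := f ∘ S.v, w := f ∘ S.w, spec := fun i => (S.spec i).map f.continuous,
      spec_succ := fun i => (S.spec_succ i).map f.continuous, start_mem := S.start_mem,
      last_eq := congrArg f S.last_eq }
  let c : Fin (k + 1) → ℕ := fun j => DimFormula.cd (S.w j) (S.v j)
  let c₀ : Fin (k + 1) → ℕ := fun j => DimFormula.cd (f (S.w j)) (f (S.v j))
  let b : Fin k → ℕ := fun j => DimFormula.cd (S.w j.castSucc) (S.v j.succ)
  let b₀ : Fin k → ℕ := fun j => DimFormula.cd (f (S.w j.castSucc)) (f (S.v j.succ))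
  let r : Y' → ℕ := FibDim.rd f
  have hcd : ∀ {w v : Y'}, w ⤳ v →
      DimFormula.cd w v + r v = DimFormula.cd (f w) (f v) + r w :=
    fun h => (DimFormula.cd_formula f h).2 (hY _)
  have hC : ∀ i, sumC S i = ((∑ j : Fin (k + 1), if i ≤ j.val then c j else 0 : ℕ) : ℕ∞) := fun i => by
    simp only [sumC, Nat.cast_sum, Nat.cast_ite, Nat.cast_zero, c, DSystem.c, codimPt_eq_cd]
  have hB : ∀ i, sumB S i = ((∑ j : Fin k, if i ≤ j.val then b j else 0 : ℕ) : ℕ∞) := fun i => by
    simp only [sumB, Nat.cast_sum, Nat.cast_ite, Nat.cast_zero, b, DSystem.b, codimPt_eq_cd]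
  have hC₀ : ∀ i, sumC S₀ i = ((∑ j : Fin (k + 1), if i ≤ j.val then c₀ j else 0 : ℕ) : ℕ∞) := fun i => by
    simp only [sumC, Nat.cast_sum, Nat.cast_ite, Nat.cast_zero, c₀, DSystem.c, S₀, Function.comp_apply, codimPt_eq_cd]
  have hB₀ : ∀ i, sumB S₀ i = ((∑ j : Fin k, if i ≤ j.val then b₀ j else 0 : ℕ) : ℕ∞) := fun i => by
    simp only [sumB, Nat.cast_sum, Nat.cast_ite, Nat.cast_zero, b₀, DSystem.b, S₀, Function.comp_apply, codimPt_eq_cd]
  have key : ∀ i ≤ k, (∑ j : Fin (k + 1), if i ≤ j.val then c₀ j else 0) + r y' ≤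
      (m + e) + ∑ j : Fin k, if i ≤ j.val then b₀ j else 0 := by
    intro i hi
    have h1 := hb i hi
    rw [hC, hB] at h1
    have h1' : (∑ j : Fin (k + 1), if i ≤ j.val then c j else 0) ≤
        m + ∑ j : Fin k, if i ≤ j.val then b j else 0 := by exact_mod_cast h1
    have h2 : (∑ j : Fin (k + 1), if i ≤ j.val then c j else 0) +
          (∑ j : Fin (k + 1), if i ≤ j.val then r (S.v j) else 0) =
        (∑ j : Fin (k + 1), if i ≤ j.val then c₀ j else 0) +
          (∑ j : Fin (k + 1), if i ≤ j.val then r (S.w j) else 0) := by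
      rw [← Finset.sum_add_distrib, ← Finset.sum_add_distrib]
      refine Finset.sum_congr rfl fun j _ => ?_
      split_ifs
      · exact hcd (S.spec j)
      · rfl
    have h3 : (∑ j : Fin k, if i ≤ j.val then b j else 0) +
          (∑ j : Fin k, if i ≤ j.val then r (S.v j.succ) else 0) =
        (∑ j : Fin k, if i ≤ j.val then b₀ j else 0) +
          (∑ j : Fin k, if i ≤ j.val then r (S.w j.castSucc) else 0) := by
      rw [← Finset.sum_add_distrib, ← Finset.sum_add_distrib]
      refine Finset.sum_congr rfl fun j _ => ?_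
      split_ifs
      · exact hcd (S.spec_succ j)
      · rfl
    have h4 := sum_ge_eq (fun j => r (S.v j)) i hi
    have h5 : (∑ j : Fin (k + 1), if i ≤ j.val then r (S.w j) else 0) =
        (∑ j : Fin k, if i ≤ j.val then r (S.w j.castSucc) else 0) + r y' := by
      rw [Fin.sum_univ_castSucc]
      simp [hi, S.last_eq]
    have h6 := he (S.v ⟨i, Nat.lt_succ_of_le hi⟩)
    simp only [] at h4
    simp only [r] at *
    omega
  have hr : r y' ≤ m + e := by
    have := key k le_rfl
    have h0 : (∑ j : Fin k, if k ≤ j.val then b₀ j else 0) = 0 :=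
      Finset.sum_eq_zero fun j _ => if_neg (by omega)
    omega
  have h7 : S₀.delta ≤ k + ((m + e - r y' : ℕ) : ℕ∞) := by
    refine delta_le_iff S₀ _ fun i hi => ?_
    rw [hC₀, hB₀]
    have := key i hi
    exact_mod_cast (by omega : (∑ j : Fin (k + 1), if i ≤ j.val then c₀ j else 0) ≤
      (m + e - r y') + ∑ j : Fin k, if i ≤ j.val then b₀ j else 0)
  rw [← hn]
  refine (add_le_add ((deltaZ_le S₀).trans h7) le_rfl).trans ?_
  exact_mod_cast (by omega : k + (m + e - r y') + r y' ≤ n + e)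

theorem rd_le_of_fibre_dim {X Y : Scheme.{u}} (f : X ⟶ Y) [LocallyOfFiniteType f] (e : ℕ)
    (h : ∀ y : Y, topologicalKrullDim ↥(f.fiber y) ≤ (e : WithBot ℕ∞)) (x : X) : FibDim.rd f x ≤ e := by
  have h1 := ((FibDim.le_topologicalKrullDim_fiber_iff f (f x) (FibDim.rd f x)).2 ⟨x, rfl, le_rfl⟩).trans (h (f x))
  exact_mod_cast h1

end Groth.Agent.Algz7
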