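import Groth.Prelude.Def_Algz
import Mathlib.RingTheory.KrullDimension.NonZeroDivisors
import Mathlib.RingTheory.Spectrum.Prime.Topology
import Mathlib.Data.Fintype.BigOperators
import Mathlib.Algebra.BigOperators.Fin

/-!
# Elementary properties of the distance function
-/

noncomputable section

namespace Groth.Agent.Algz7

universe u v

open Algz

variable {Y : Type u} [TopologicalSpace Y]

theorem specialization_le {a b : Y} : Specialization.toEquiv a ≤ Specialization.toEquiv b ↔ b ⤳ a := Iff.rfl

theorem specialization_lt [T0Space Y] {a b : Y} :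
    Specialization.toEquiv a < Specialization.toEquiv b ↔ b ⤳ a ∧ b ≠ a := by
  rw [lt_iff_le_not_ge, specialization_le, specialization_le]
  exact and_congr_right fun h => ⟨fun h' e => h' (e ▸ specializes_rfl), fun hne h' => hne (h.antisymm h').eq⟩

theorem codimPt_congr {w w' v : Y} (hw : w = w') (h : w ⤳ v) (h' : w' ⤳ v) : codimPt w v h = codimPt w' v h' := by
  subst hw; rfl

/-- A strictly monotone function on the generalizations bounds the codimension. -/
theorem codimPt_le_height {β : Type v} [Preorder β] {w v : Y} (h : w ⤳ v)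
    (f : Set.Ici (Specialization.toEquiv v) → β) (hf : StrictMono f) :
    codimPt w v h ≤ Order.height (f ⟨Specialization.toEquiv w, h⟩) :=
  Order.height_le_height_apply_of_strictMono f hf _

theorem codimPt_mono {w v v' : Y} (h : w ⤳ v) (hv : v ⤳ v') :
    codimPt w v h ≤ codimPt w v' (h.trans hv) :=
  codimPt_le_height (β := Set.Ici (Specialization.toEquiv v')) h
    (fun x => ⟨x.1, Set.mem_Ici.mpr (le_trans (show Specialization.toEquiv v' ≤ Specialization.toEquiv v from hv) x.2)⟩)
    (fun _ _ h => h)

theorem codimPt_self [T0Space Y] (v : Y) (h : v ⤳ v) : codimPt v v h = 0 :=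
  Order.height_eq_zero.mpr fun x _ => x.2

theorem one_le_codimPt [T0Space Y] {w v : Y} (h : w ⤳ v) (hne : w ≠ v) : 1 ≤ codimPt w v h := by
  refine le_trans le_add_self (Order.height_add_one_le (a := (⟨Specialization.toEquiv v, Set.mem_Ici.mpr le_rfl⟩ :
    Set.Ici (Specialization.toEquiv v))) ?_)
  exact specialization_lt.mpr ⟨h, hne⟩

theorem codimPt_add_one_le [T0Space Y] {w z v : Y} (hwz : w ⤳ z) (hzv : z ⤳ v) (hne : w ≠ z) :
    codimPt z v hzv + 1 ≤ codimPt w v (hwz.trans hzv) :=
  Order.height_add_one_le (show (⟨Specialization.toEquiv z, hzv⟩ : Set.Ici (Specialization.toEquiv v)) <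
    ⟨Specialization.toEquiv w, hwz.trans hzv⟩ from specialization_lt.mpr ⟨hwz, hne⟩)

theorem codimPt_le_one [T0Space Y] {w v : Y} (h : w ⤳ v)
    (himm : ∀ z : Y, w ⤳ z → z ⤳ v → z = w ∨ z = v) : codimPt w v h ≤ 1 := by
  refine (Order.height_le_coe_iff (n := 1)).mpr fun x hx => ?_
  obtain ⟨x, hxv⟩ := x
  obtain ⟨z, rfl⟩ := Specialization.toEquiv.surjective x
  obtain ⟨hwz, hne⟩ := specialization_lt.mp (show Specialization.toEquiv z < Specialization.toEquiv w from hx)
  rcases himm z hwz hxv with rfl | rfl
  · exact absurd rfl hne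
  · rw [show Order.height (⟨Specialization.toEquiv z, hxv⟩ : Set.Ici (Specialization.toEquiv z)) = 0 from
      Order.height_eq_zero.mpr fun x _ => x.2]
    simp

/-- A function dropping by exactly one along immediate specializations computes codimensions. -/
theorem codimPt_eq_of_dimFun [T0Space Y] (δ : Y → ℤ) (h1 : ∀ x y : Y, x ⤳ y → x ≠ y → δ y < δ x)
    (h2 : ∀ x y : Y, x ⤳ y → x ≠ y → (∀ z, x ⤳ z → z ⤳ y → z = x ∨ z = y) → δ x = δ y + 1)
    {w v : Y} (h : w ⤳ v) : codimPt w v h = ((δ w - δ v).toNat : ℕ∞) := by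
  have hle : ∀ a b : Y, a ⤳ b → δ b ≤ δ a := fun a b hab => by
    by_cases e : a = b
    · rw [e]
    · exact (h1 a b hab e).le
  refine le_antisymm ?_ ?_
  · let f : Set.Ici (Specialization.toEquiv v) → ℕ := fun x => (δ (Specialization.ofEquiv x.1) - δ v).toNat
    refine (codimPt_le_height h f fun x y hxy => ?_).trans ?_
    · obtain ⟨x, hx⟩ := x
      obtain ⟨y, hy⟩ := y
      obtain ⟨x, rfl⟩ := Specialization.toEquiv.surjective x
      obtain ⟨y, rfl⟩ := Specialization.toEquiv.surjective y
      obtain ⟨hyx, hne⟩ := specialization_lt.mp (show Specialization.toEquiv x < Specialization.toEquiv y from hxy)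
      have := h1 y x hyx hne
      have := hle x v hx
      show (δ x - δ v).toNat < (δ y - δ v).toNat
      omega
    · rw [Order.height_nat]
      rfl
  · induction hd : (δ w - δ v).toNat using Nat.strong_induction_on generalizing w with
    | _ d ih => ?_
    rcases eq_or_ne w v with rfl | hne
    · simp at hd; subst hd; simp
    classical
    let P : ℕ → Prop := fun m => ∃ z, w ⤳ z ∧ z ⤳ v ∧ z ≠ w ∧ (δ z - δ v).toNat = m
    obtain ⟨z, hwz, hzv, hzw, hzd⟩ :=
      Nat.findGreatest_spec (P := P) (n := d) (Nat.zero_le d) ⟨v, h, specializes_rfl, hne.symm, by simp⟩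
    have himm : ∀ y : Y, w ⤳ y → y ⤳ z → y = w ∨ y = z := by
      intro y hwy hyz
      by_contra hcon
      push Not at hcon
      obtain ⟨hyw, hyz'⟩ := hcon
      have h3 := h1 y z hyz hyz'
      have h4 := hle z v hzv
      have h5 := h1 w y hwy hyw.symm
      have h6 : (δ y - δ v).toNat ≤ d := by omega
      have := Nat.le_findGreatest h6 (show P _ from ⟨y, hwy, hyz.trans hzv, hyw, rfl⟩)
      omega
    have h7 := h2 w z hwz hzw.symm himm
    have h8 := hle z v hzv
    have h9 := ih ((δ z - δ v).toNat) (by omega) (w := z) hzv rfl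
    refine le_trans ?_ (codimPt_add_one_le hwz hzv hzw.symm)
    rw [show d = (δ z - δ v).toNat + 1 by omega, Nat.cast_add, Nat.cast_one]
    exact add_le_add h9 le_rfl

/-- The sum of `c` from `i` on. -/
def sumC {Z : Set Y} {y : Y} {k : ℕ} (S : DSystem Z y k) (i : ℕ) : ℕ∞ :=
  ∑ j : Fin (k + 1), if i ≤ j.val then S.c j else 0

/-- The sum of `b` from `i` on. -/
def sumB {Z : Set Y} {y : Y} {k : ℕ} (S : DSystem Z y k) (i : ℕ) : ℕ∞ :=
  ∑ j : Fin k, if i ≤ j.val then S.b j else 0

theorem delta_eq {Z : Set Y} {y : Y} {k : ℕ} (S : DSystem Z y k) :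
    S.delta = (k : ℕ∞) + Finset.univ.sup fun i : Fin (k + 1) => sumC S i.val - sumB S i.val := by
  simp only [DSystem.delta, sumC, sumB, Finset.sum_filter, Fin.le_def]

theorem delta_le_iff {Z : Set Y} {y : Y} {k : ℕ} (S : DSystem Z y k) (M : ℕ∞)
    (h : ∀ i : ℕ, i ≤ k → sumC S i ≤ M + sumB S i) : S.delta ≤ k + M := by
  rw [delta_eq]
  exact add_le_add le_rfl (Finset.sup_le fun i _ => tsub_le_iff_right.mpr (h i.val (Nat.lt_succ_iff.mp i.2)))

theorem le_delta {Z : Set Y} {y : Y} {k : ℕ} (S : DSystem Z y k) :
    ∃ M : ℕ∞, S.delta = k + M ∧ ∀ i : ℕ, i ≤ k → sumC S i ≤ M + sumB S i :=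
  ⟨_, delta_eq S, fun i hi => tsub_le_iff_right.mp
    (Finset.le_sup (f := fun i : Fin (k + 1) => sumC S i.val - sumB S i.val)
      (Finset.mem_univ (⟨i, Nat.lt_succ_iff.mpr hi⟩ : Fin (k + 1))))⟩

theorem deltaZ_le {Z : Set Y} {y : Y} {k : ℕ} (S : DSystem Z y k) : deltaZ Z y ≤ S.delta :=
  (iInf_le _ k).trans (iInf_le _ S)

theorem deltaZ_le_codimPt {Z : Set Y} {z y : Y} (hz : z ∈ Z) (h : y ⤳ z) : deltaZ Z y ≤ codimPt y z h := by
  let S : DSystem Z y 0 :=
    { v := fun _ => z, w := fun _ => y, spec := fun _ => h, spec_succ := fun i => i.elim0, start_mem := hz,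
      last_eq := rfl }
  refine (deltaZ_le S).trans ((delta_le_iff S _ fun i hi => ?_).trans (by simp; rfl))
  simp [sumC, sumB, Nat.le_zero.mp hi, DSystem.c, S]

theorem exists_system {Z : Set Y} {y : Y} {n : ℕ} (hn : deltaZ Z y = n) :
    ∃ (k : ℕ) (S : DSystem Z y k), S.delta ≤ n := by
  by_contra h
  push Not at h
  have : ((n + 1 : ℕ) : ℕ∞) ≤ deltaZ Z y := le_iInf fun k => le_iInf fun S => by
    have := Order.add_one_le_of_lt (h k S)
    exact_mod_cast this
  rw [hn, Nat.cast_le] at this
  omega

/-- The distance decreases along specializations. -/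
theorem deltaZ_le_of_specializes [T0Space Y] {Z : Set Y} (hZ : IsClosed Z) {y y' : Y} (h : y ⤳ y') :
    deltaZ Z y' ≤ deltaZ Z y := by
  refine le_iInf fun k => le_iInf fun S => ?_
  obtain ⟨M, hM, hS⟩ := le_delta S
  rw [hM]
  rcases eq_or_ne y y' with rfl | hne
  · exact (deltaZ_le S).trans hM.le
  by_cases hM0 : M = 0
  · -- move the last pair
    have hvy : S.v (Fin.last k) = y := by
      have h1 := hS k le_rfl
      have hb : sumB S k = 0 := Finset.sum_eq_zero fun j _ => if_neg (by omega)
      have hc : sumC S k = S.c (Fin.last k) := by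
        refine (Finset.sum_eq_single (Fin.last k) (fun j _ hj => if_neg ?_) (by simp)).trans (if_pos (by simp))
        have := Fin.val_lt_last hj
        omega
      rw [hb, hc, hM0, add_zero, le_zero_iff] at h1
      by_contra hv
      have h2 := one_le_codimPt (S.spec (Fin.last k)) (fun e => hv (e.symm.trans S.last_eq))
      rw [show codimPt _ _ (S.spec (Fin.last k)) = 0 from h1] at h2
      simp at h2
    let S' : DSystem Z y' k :=
      { v := Function.update S.v (Fin.last k) y'
        w := Function.update S.w (Fin.last k) y'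
        spec := fun i => by
          rcases eq_or_ne i (Fin.last k) with rfl | hi
          · simp [specializes_refl]
          · simp [hi, S.spec i]
        spec_succ := fun i => by
          rw [Function.update_of_ne (Fin.castSucc_lt_last i).ne]
          rcases eq_or_ne i.succ (Fin.last k) with e | hi
          · rw [e, Function.update_self]
            have := S.spec_succ i
            rw [e, hvy] at this
            exact this.trans h
          · rw [Function.update_of_ne hi]; exact S.spec_succ i
        start_mem := by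
          rcases eq_or_ne (0 : Fin (k + 1)) (Fin.last k) with e | hi
          · rw [e, Function.update_self]
            have := S.start_mem
            rw [e, hvy] at this
            exact h.mem_closed hZ this
          · rw [Function.update_of_ne hi]; exact S.start_mem
        last_eq := Function.update_self _ _ _ }
    refine (deltaZ_le S').trans (delta_le_iff S' M fun i hi => le_trans ?_ ((hS i hi).trans (add_le_add le_rfl ?_)))
    · refine Finset.sum_le_sum fun j _ => ?_
      split_ifs
      · rcases eq_or_ne j (Fin.last k) with rfl | hj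
        · have e : S'.c (Fin.last k) = 0 := by
            show codimPt _ _ _ = 0
            have : S'.v (Fin.last k) = y' := Function.update_self _ _ _
            have hw : S'.w (Fin.last k) = y' := Function.update_self _ _ _
            simp only [S', Function.update_self]
            exact codimPt_self _ _
          rw [e]; exact bot_le
        · refine le_of_eq ?_
          show codimPt _ _ _ = codimPt _ _ _
          simp only [S', Function.update_of_ne hj]
      · exact le_rfl
    · refine Finset.sum_le_sum fun j _ => ?_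
      split_ifs
      · show codimPt _ _ _ ≤ codimPt _ _ _
        simp only [S', Function.update_of_ne (Fin.castSucc_lt_last j).ne]
        rcases eq_or_ne j.succ (Fin.last k) with e | hj
        · simp only [e, Function.update_self, hvy]
          exact codimPt_mono _ h
        · simp only [Function.update_of_ne hj]
          exact le_rfl
      · exact le_rfl
  · -- append a pair
    let S' : DSystem Z y' (k + 1) :=
      { v := Fin.snoc S.v y'
        w := Fin.snoc S.w y'
        spec := Fin.lastCases (by simp [specializes_refl]) (fun i => by simpa using S.spec i)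
        spec_succ := Fin.lastCases (by simpa [Fin.succ_last, S.last_eq] using h) (fun i => by
          rw [Fin.succ_castSucc, Fin.snoc_castSucc, Fin.snoc_castSucc]
          exact S.spec_succ i)
        start_mem := by
          rw [show (0 : Fin (k + 1 + 1)) = (0 : Fin (k + 1)).castSucc from rfl, Fin.snoc_castSucc]
          exact S.start_mem
        last_eq := Fin.snoc_last _ _ }
    have hc' : ∀ j : Fin (k + 1), S'.c j.castSucc = S.c j := fun j => by
      show codimPt _ _ _ = codimPt _ _ _
      simp only [S', Fin.snoc_castSucc]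
    have hcl : S'.c (Fin.last (k + 1)) = 0 := by
      show codimPt _ _ _ = 0
      simp only [S', Fin.snoc_last]
      exact codimPt_self _ _
    have hb' : ∀ j : Fin k, S'.b j.castSucc = S.b j := fun j => by
      show codimPt _ _ _ = codimPt _ _ _
      simp only [S', Fin.snoc_castSucc, Fin.succ_castSucc]
    have hbl : 1 ≤ S'.b (Fin.last k) := by
      show 1 ≤ codimPt _ _ _
      simp only [S', Fin.succ_last, Fin.snoc_last, Fin.snoc_castSucc, S.last_eq]
      exact one_le_codimPt _ hne
    have hM1 : 1 ≤ M := Order.one_le_iff_pos.mpr (pos_iff_ne_zero.mpr hM0)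
    refine (deltaZ_le S').trans ((delta_le_iff S' (M - 1) fun i hi => ?_).trans (le_of_eq ?_))
    · rcases eq_or_lt_of_le hi with rfl | hlt
      · refine le_trans (le_of_eq (Finset.sum_eq_zero fun j _ => ?_)) bot_le
        split_ifs with hj
        · obtain rfl : j = Fin.last (k + 1) := Fin.ext (by have := j.2; simp; omega)
          exact hcl
        · rfl
      · have hi' : i ≤ k := Nat.lt_succ_iff.mp hlt
        have e1 : sumC S' i = sumC S i := by
          rw [sumC, Fin.sum_univ_castSucc]
          simp [hc', hcl, sumC]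
        have e2 : sumB S' i = sumB S i + S'.b (Fin.last k) := by
          rw [sumB, Fin.sum_univ_castSucc]
          simp [hb', sumB, hi']
        rw [e1, e2]
        calc sumC S i ≤ M + sumB S i := hS i hi'
          _ = (M - 1) + (sumB S i + 1) := by
            conv_lhs => rw [← tsub_add_cancel_of_le hM1]
            rw [add_assoc, add_comm 1]
          _ ≤ (M - 1) + (sumB S i + S'.b (Fin.last k)) := add_le_add le_rfl (add_le_add le_rfl hbl)
    · rw [Nat.cast_add, Nat.cast_one, add_assoc, add_comm 1, tsub_add_cancel_of_le hM1]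

/-- A zigzag of immediate generalizations and specializations bounds the distance. -/
theorem deltaZ_le_zigzag [T0Space Y] {Z : Set Y} (k : ℕ) (y : Fin (k + 1) → Y) (y' : Fin k → Y) (h0 : y 0 ∈ Z)
    (hdown : ∀ i : Fin k, y' i ⤳ y i.castSucc ∧ y' i ≠ y i.castSucc ∧
      ∀ z : Y, y' i ⤳ z → z ⤳ y i.castSucc → z = y' i ∨ z = y i.castSucc)
    (hup : ∀ i : Fin k, y' i ⤳ y i.succ ∧ y' i ≠ y i.succ) : deltaZ Z (y (Fin.last k)) ≤ k := by
  let S : DSystem Z (y (Fin.last k)) k :=
    { v := y
      w := Fin.snoc y' (y (Fin.last k))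
      spec := Fin.lastCases (by simp [specializes_refl]) (fun i => by simpa using (hdown i).1)
      spec_succ := fun i => by simpa using (hup i).1
      start_mem := h0
      last_eq := Fin.snoc_last _ _ }
  refine (deltaZ_le S).trans ((delta_le_iff S 0 fun i _ => ?_).trans (by simp))
  rw [zero_add, sumC, sumB, Fin.sum_univ_castSucc]
  have hl : S.c (Fin.last k) = 0 := by
    show codimPt _ _ _ = 0
    simp only [S, Fin.snoc_last]
    exact codimPt_self _ _
  rw [hl]
  simp only [ite_self, add_zero]
  refine Finset.sum_le_sum fun j _ => ?_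
  simp only [Fin.val_castSucc]
  split_ifs
  · refine le_trans ?_ (b := 1) ?_
    · show codimPt _ _ _ ≤ 1
      simp only [S, Fin.snoc_castSucc]
      exact codimPt_le_one _ (hdown j).2.2
    · show 1 ≤ codimPt _ _ _
      simp only [S, Fin.snoc_castSucc]
      exact one_le_codimPt _ (hup j).2
  · exact le_rfl

/-- The distance can only grow on an open subspace. -/
theorem deltaZ_le_of_isOpenEmbedding {Y' : Type u} [TopologicalSpace Y'] {f : Y' → Y}
    (hf : Topology.IsOpenEmbedding f) (Z : Set Y) (y' : Y') : deltaZ Z (f y') ≤ deltaZ (f ⁻¹' Z) y' := by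
  refine le_iInf fun k => le_iInf fun S => ?_
  have hcod : ∀ (w v : Y') (h : w ⤳ v), codimPt (f w) (f v) (h.map hf.continuous) = codimPt w v h := by
    intro w v h
    let e : Set.Ici (Specialization.toEquiv v) → Set.Ici (Specialization.toEquiv (f v)) := fun x =>
      ⟨Specialization.toEquiv (f (Specialization.ofEquiv x.1)), (show Specialization.ofEquiv x.1 ⤳ v from x.2).map hf.continuous⟩
    have he : ∀ x x', e x ≤ e x' ↔ x ≤ x' := fun x x' => by
      show f (Specialization.ofEquiv x'.1) ⤳ f (Specialization.ofEquiv x.1) ↔ _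
      rw [hf.isInducing.specializes_iff]
      rfl
    have hsurj : Function.Surjective e := by
      rintro ⟨z, hz⟩
      obtain ⟨z, rfl⟩ := Specialization.toEquiv.surjective z
      obtain ⟨x, rfl⟩ : z ∈ Set.range f := (show z ⤳ f v from hz).mem_open hf.isOpen_range ⟨v, rfl⟩
      exact ⟨⟨Specialization.toEquiv x, hf.isInducing.specializes_iff.mp hz⟩, rfl⟩
    let eo : Set.Ici (Specialization.toEquiv v) ≃o Set.Ici (Specialization.toEquiv (f v)) :=
      { toEquiv := Equiv.ofBijective e ⟨fun x x' hxx => by
          have h1 : f (Specialization.ofEquiv x.1) = f (Specialization.ofEquiv x'.1) :=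
            congrArg (fun t => Specialization.ofEquiv t.1) hxx
          exact Subtype.ext (Specialization.ofEquiv.injective (hf.injective h1)), hsurj⟩
        map_rel_iff' := fun {a b} => he a b }
    exact Order.height_orderIso eo ⟨Specialization.toEquiv w, h⟩
  let S' : DSystem Z (f y') k :=
    { v := f ∘ S.v, w := f ∘ S.w, spec := fun i => (S.spec i).map hf.continuous,
      spec_succ := fun i => (S.spec_succ i).map hf.continuous, start_mem := S.start_mem,
      last_eq := congrArg f S.last_eq }
  refine (deltaZ_le S').trans (le_of_eq ?_)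
  have hc : ∀ j, S'.c j = S.c j := fun j => hcod _ _ (S.spec j)
  have hb : ∀ j, S'.b j = S.b j := fun j => hcod _ _ (S.spec_succ j)
  rw [delta_eq, delta_eq]
  simp only [sumC, sumB, hc, hb]

/-- Comparison with a dimension function. -/
theorem exists_dimFun_le [T0Space Y] {Z : Set Y} (δ : Y → ℤ) (h1 : ∀ x y : Y, x ⤳ y → x ≠ y → δ y < δ x)
    (h2 : ∀ x y : Y, x ⤳ y → x ≠ y → (∀ z, x ⤳ z → z ⤳ y → z = x ∨ z = y) → δ x = δ y + 1)
    {y : Y} {n : ℕ} (hn : deltaZ Z y = n) : ∃ z ∈ Z, δ y ≤ n + δ z := by
  obtain ⟨k, S, hS⟩ := exists_system hn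
  obtain ⟨M, hM, hb⟩ := le_delta S
  refine ⟨S.v 0, S.start_mem, ?_⟩
  have hle : ∀ a b : Y, a ⤳ b → δ b ≤ δ a := fun a b hab => by
    by_cases e : a = b
    · rw [e]
    · exact (h1 a b hab e).le
  have hMtop : M ≠ ⊤ := by
    rintro rfl
    rw [hM, add_top, top_le_iff] at hS
    exact ENat.coe_ne_top n hS
  obtain ⟨m, rfl⟩ := ENat.ne_top_iff_exists.mp hMtop
  have hkm : k + m ≤ n := by rw [hM] at hS; exact_mod_cast hS
  have h0 := hb 0 (Nat.zero_le _)
  simp only [sumC, sumB, Nat.zero_le, if_true, DSystem.c, DSystem.b, codimPt_eq_of_dimFun δ h1 h2] at h0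
  rw [← Nat.cast_sum, ← Nat.cast_sum, ← Nat.cast_add, Nat.cast_le] at h0
  have h0' : (∑ j : Fin (k + 1), (δ (S.w j) - δ (S.v j))) ≤ m + ∑ j : Fin k, (δ (S.w j.castSucc) - δ (S.v j.succ)) := by
    have e1 : ∀ j : Fin (k + 1), δ (S.w j) - δ (S.v j) = ((δ (S.w j) - δ (S.v j)).toNat : ℤ) := fun j =>
      (Int.toNat_of_nonneg (sub_nonneg.mpr (hle _ _ (S.spec j)))).symm
    have e2 : ∀ j : Fin k, δ (S.w j.castSucc) - δ (S.v j.succ) = ((δ (S.w j.castSucc) - δ (S.v j.succ)).toNat : ℤ) :=
      fun j => (Int.toNat_of_nonneg (sub_nonneg.mpr (hle _ _ (S.spec_succ j)))).symm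
    rw [Finset.sum_congr rfl (fun j _ => e1 j), Finset.sum_congr rfl (fun j _ => e2 j)]
    exact_mod_cast h0
  rw [Finset.sum_sub_distrib, Finset.sum_sub_distrib, Fin.sum_univ_succ (fun j => δ (S.v j)),
    Fin.sum_univ_castSucc (fun j => δ (S.w j)), S.last_eq] at h0'
  have : (m : ℤ) ≤ n := by exact_mod_cast (by omega : m ≤ n)
  linarith

end Groth.Agent.Algz7
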