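import Mathlib
import Groth.Agent.Algz7.Canonical

/-! Under Mittag-Leffler, the limit of the sections generates every term on the open. -/

set_option autoImplicit false
universe u

open CategoryTheory CategoryTheory.Limits AlgebraicGeometry Opposite

namespace Groth.Agent.Algz7

theorem epi_map_of_comp_cokernel {C : Type*} [Category C] [Abelian C] {D : Type*} [Category D] [Abelian D]
    {F : C ⥤ D} {G : D ⥤ C} (adj : F ⊣ G) {M X Y : C} (π : M ⟶ X) (t : Y ⟶ X) [Epi (F.map t)]
    (h : t ≫ cokernel.π π = 0) : Epi (F.map π) := by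
  haveI : G.IsRightAdjoint := adj.isRightAdjoint
  haveI : F.IsLeftAdjoint := adj.isLeftAdjoint
  refine Preadditive.epi_of_cancel_zero _ fun {Z} φ hφ => ?_
  have h1 : π ≫ adj.homEquiv X Z φ = 0 := by
    rw [← adj.homEquiv_naturality_left, hφ, adj.homEquiv_unit, Functor.map_zero, comp_zero]
  have h2 : t ≫ adj.homEquiv X Z φ = 0 := by
    rw [← cokernel.π_desc _ _ h1, ← Category.assoc, h, zero_comp]
  rw [← cancel_epi (F.map t), comp_zero]
  apply (adj.homEquiv _ _).injective
  rw [adj.homEquiv_naturality_left, h2, adj.homEquiv_unit, Functor.map_zero, comp_zero]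

theorem epi_double_transpose {J C D E : Type*} [Category J] [Category C] [Category D] [Category E]
    [Abelian C] [Abelian D] [Abelian E] {T : C ⥤ D} {Γ' : D ⥤ C} (adjT : T ⊣ Γ') {R : D ⥤ E} {P : E ⥤ D}
    (adjR : R ⊣ P) (G : J ⥤ E) {j n : J} (t : j ⟶ n) [Epi (G.map t)]
    [IsIso (adjT.counit.app (P.obj (G.obj j)))] [IsIso (adjT.counit.app (P.obj (G.obj n)))]
    [IsIso (adjR.counit.app (G.obj j))] [IsIso (adjR.counit.app (G.obj n))]
    {M : C} (f : M ⟶ Γ'.obj (P.obj (G.obj n)))
    (h : Γ'.map (P.map (G.map t)) ≫ cokernel.π f = 0) :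
    Epi ((adjR.homEquiv _ (G.obj n)).symm ((adjT.homEquiv M _).symm f)) := by
  have hnat : R.map (T.map (Γ'.map (P.map (G.map t)))) ≫
      R.map (adjT.counit.app (P.obj (G.obj n))) ≫ adjR.counit.app (G.obj n) =
        (R.map (adjT.counit.app (P.obj (G.obj j))) ≫ adjR.counit.app (G.obj j)) ≫ G.map t := by
    have h1 := adjT.counit.naturality (P.map (G.map t))
    have h2 := adjR.counit.naturality (G.map t)
    simp only [Functor.comp_map, Functor.id_map] at h1 h2
    rw [← Category.assoc, ← R.map_comp, h1, R.map_comp, Category.assoc, h2, Category.assoc]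
  haveI : Epi ((T ⋙ R).map (Γ'.map (P.map (G.map t)))) := by
    have e : (T ⋙ R).map (Γ'.map (P.map (G.map t))) =
        ((R.map (adjT.counit.app (P.obj (G.obj j))) ≫ adjR.counit.app (G.obj j)) ≫ G.map t) ≫
          inv (R.map (adjT.counit.app (P.obj (G.obj n))) ≫ adjR.counit.app (G.obj n)) := by
      rw [IsIso.eq_comp_inv]
      exact hnat
    rw [e]
    infer_instance
  haveI := epi_map_of_comp_cokernel (adjT.comp adjR) f (Γ'.map (P.map (G.map t))) h
  rw [Adjunction.homEquiv_counit, Adjunction.homEquiv_counit, R.map_comp, Category.assoc]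
  exact @epi_comp _ _ _ _ _ _ this _ inferInstance

variable {A : Type u} [CommRing A] [IsNoetherianRing A]

theorem epi_limit_generates (I : Ideal A) (U : (Spec (CommRingCat.of A)).Opens)
    (G : ℕᵒᵖ ⥤ (U : Scheme.{u}).Modules) (hG : Formal.IsCohFormal I G)
    (ha : ARSys.IsML (Algz.sectMod A U G)) (n : ℕ) :
    Epi (((Scheme.Modules.restrictAdjunction U.ι).homEquiv _ (G.obj (op n))).symm
      (((tilde.adjunction (R := CommRingCat.of A)).homEquiv (limit (Algz.sectMod A U G))
        ((Scheme.Modules.pushforward U.ι).obj (G.obj (op n)))).symm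
          (limit.π (Algz.sectMod A U G) (op n)))) := by
  letI : (Spec (CommRingCat.of A)).Over (Spec (CommRingCat.of A)) := ⟨𝟙 _⟩
  haveI : QuasiCompact U.ι := QCoh.quasiCompact_ι_of_compact U (TopologicalSpace.NoetherianSpace.isCompact _)
  obtain ⟨N, hN, hlift⟩ := exists_le_forall_exists_π_eq (Algz.sectMod A U G) ha n
  haveI := epi_tr hG hN
  haveI := isIso_counit (QCoh.isQCoh_pushforward U.ι (hG.1 N).1)
  haveI := isIso_counit (QCoh.isQCoh_pushforward U.ι (hG.1 n).1)
  refine @epi_double_transpose _ _ _ _ _ _ _ _ _ _ _ _ _ (tilde.adjunction (R := CommRingCat.of A)) _ _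
    (Scheme.Modules.restrictAdjunction U.ι) G (op N) (op n) (homOfLE hN).op _ _ _ _ _ _
    (limit.π (Algz.sectMod A U G) (op n)) ?_
  refine ModuleCat.hom_ext (LinearMap.ext fun z => ?_)
  obtain ⟨y, hy⟩ := hlift z
  change cokernel.π (limit.π (Algz.sectMod A U G) (op n)) (ARSys.tr (Algz.sectMod A U G) hN z) = 0
  rw [← hy]
  exact congr($(cokernel.condition (limit.π (Algz.sectMod A U G) (op n))) y)

end Groth.Agent.Algz7
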