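import Mathlib
import Groth.Agent.Algz7.Restrict
import Groth.Agent.ZClosLib.CohDescent

/-! Pullback of objects of Coh(X, I) along a morphism over the base. -/

set_option autoImplicit false
universe u

open CategoryTheory CategoryTheory.Limits AlgebraicGeometry Opposite

namespace Groth.Agent.Algz7

variable {A : Type u} [CommRing A] {X Y : Scheme.{u}} [X.Over (Spec (CommRingCat.of A))]
  [Y.Over (Spec (CommRingCat.of A))] (f : X ⟶ Y)
  (hf : f ≫ (Y ↘ Spec (CommRingCat.of A)) = X ↘ Spec (CommRingCat.of A))

theorem app_res_top {X Y : Scheme.{u}} (f : X ⟶ Y) (V : Y.Opens) (r : Γ(Y, ⊤)) :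
    f.app V (Y.presheaf.map (homOfLE (le_top (a := V))).op r) =
      X.presheaf.map (homOfLE (le_top (a := f ⁻¹ᵁ V))).op (f.appTop r) := by
  have h := f.naturality (homOfLE (le_top (a := V))).op
  exact congr($h r)

include hf in
theorem pushforward_smulMod (N : X.Modules) (a : A) :
    (Scheme.Modules.pushforward f).map (Formal.smulMod A N a) =
      Formal.smulMod A ((Scheme.Modules.pushforward f).obj N) a := by
  have key : ∀ V : Y.Opens,
      X.presheaf.map (homOfLE (le_top (a := f ⁻¹ᵁ V))).op (Coh.toGlobal (X ↘ Spec (CommRingCat.of A)) a) =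
      f.app V (Y.presheaf.map (homOfLE (le_top (a := V))).op
        (Coh.toGlobal (Y ↘ Spec (CommRingCat.of A)) a)) := by
    intro V
    have e1 : Coh.toGlobal (X ↘ Spec (CommRingCat.of A)) a =
        f.appTop (Coh.toGlobal (Y ↘ Spec (CommRingCat.of A)) a) := by
      rw [← hf]; rfl
    rw [e1]
    exact (app_res_top f V _).symm
  apply SheafOfModules.Hom.ext
  ext V m
  exact congrArg (· • (show Γ(N, f ⁻¹ᵁ V.unop) from m)) (key V.unop)

include hf in
theorem pullback_smulMod (M : Y.Modules) (a : A) :
    (Scheme.Modules.pullback f).map (Formal.smulMod A M a) =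
      Formal.smulMod A ((Scheme.Modules.pullback f).obj M) a := by
  let adj := Scheme.Modules.pullbackPushforwardAdjunction f
  apply (adj.homEquiv _ _).injective
  rw [← Category.comp_id ((Scheme.Modules.pullback f).map _), adj.homEquiv_naturality_left,
    adj.homEquiv_unit, adj.homEquiv_unit, pushforward_smulMod f hf, CategoryTheory.Functor.map_id]
  erw [Category.comp_id]
  exact smulMod_naturality _ a

include hf in
theorem killedBy_pullback {J : Ideal A} {N : Y.Modules} (hN : Formal.KilledBy J N) :
    Formal.KilledBy J ((Scheme.Modules.pullback f).obj N) := fun a ha => by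
  haveI := (Scheme.Modules.pullbackPushforwardAdjunction f).left_adjoint_additive
  rw [← pullback_smulMod f hf, hN a ha, Functor.map_zero]

include hf in
theorem IsQuot.pullback {J : Ideal A} {M N : Y.Modules} {g : M ⟶ N} (hg : IsQuot J g) :
    IsQuot J ((Scheme.Modules.pullback f).map g) := by
  let adj := Scheme.Modules.pullbackPushforwardAdjunction f
  haveI := adj.left_adjoint_additive
  haveI := hg.epi
  haveI : (Scheme.Modules.pullback f).PreservesEpimorphisms :=
    Functor.preservesEpimorphisms_of_adjunction adj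
  haveI : Epi ((Scheme.Modules.pullback f).map g) := inferInstance
  refine IsQuot.mk' _ (killedBy_pullback f hf (killedBy_of_isQuot hg)) fun {P} φ hφ => ?_
  obtain ⟨ψ, hψ⟩ := hg.desc (adj.homEquiv _ _ φ) (by
    apply Sigma.hom_ext
    intro a
    rw [comp_zero, ← Category.assoc, Formal.smulFamily, Sigma.ι_desc, ← adj.homEquiv_naturality_left,
      pullback_smulMod f hf, smulMod_comp_eq_zero hφ a.2]
    rw [adj.homEquiv_unit, Functor.map_zero, comp_zero])
  refine ⟨(adj.homEquiv _ _).symm ψ, ?_⟩
  rw [← adj.homEquiv_naturality_left_symm, hψ, Equiv.symm_apply_apply]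

include hf in
theorem isCohFormal_pullback {I : Ideal A} {G : ℕᵒᵖ ⥤ Y.Modules} (hG : Formal.IsCohFormal I G) :
    Formal.IsCohFormal I (G ⋙ Scheme.Modules.pullback f) :=
  ⟨fun n => ZClosLib.isCoh_pullback f (hG.1 n), fun n => killedBy_pullback f hf (hG.2.1 n),
    fun n => IsQuot.pullback f hf (hG.2.2 n)⟩

end Groth.Agent.Algz7
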