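import Mathlib
import Groth.Agent.Algz7.Canonical
import Groth.Agent.QCoh.Support

/-! Coherence of the quotients of the limit on the open, and injectivity into the system. -/

set_option autoImplicit false
universe u

open CategoryTheory CategoryTheory.Limits AlgebraicGeometry Opposite

namespace Groth.Agent.Algz7

section

variable {R : CommRingCat.{u}}

/-- The sections of `M~` over `D(f)`, as an `R`-module. -/
noncomputable abbrev secD (W : ModuleCat.{u} R) (f : R) : ModuleCat.{u} R :=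
  (modulesSpecToSheaf.obj (tilde W)).presheaf.obj (op (PrimeSpectrum.basicOpen f))

noncomputable abbrev mapD {W W' : ModuleCat.{u} R} (φ : W ⟶ W') (f : R) : secD W f ⟶ secD W' f :=
  (modulesSpecToSheaf.map (tilde.map φ)).1.app _

theorem exists_numerator {W W' : ModuleCat.{u} R} (φ : W ⟶ W') (f : R) (x : secD W f) (hx : mapD φ f x = 0) :
    ∃ (w : W) (k j : ℕ), f ^ k • x = tilde.toOpen W (PrimeSpectrum.basicOpen f) w ∧ f ^ j • φ w = 0 := by
  obtain ⟨⟨w, ⟨_, k, rfl⟩⟩, hw⟩ := IsLocalizedModule.surj (Submonoid.powers f)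
    (tilde.toOpen W (PrimeSpectrum.basicOpen f)).hom x
  have h0 : tilde.toOpen W' (PrimeSpectrum.basicOpen f) (φ w) = 0 := by
    have e := congr($(tilde.toOpen_map_app φ (PrimeSpectrum.basicOpen f)) w)
    refine e.symm.trans ?_
    change mapD φ f (tilde.toOpen W (PrimeSpectrum.basicOpen f) w) = 0
    have hw' : f ^ k • x = tilde.toOpen W (PrimeSpectrum.basicOpen f) w := hw
    rw [← hw', map_smul, hx, smul_zero]
  obtain ⟨⟨_, j, rfl⟩, hj⟩ := (IsLocalizedModule.eq_zero_iff (Submonoid.powers f)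
    (tilde.toOpen W' (PrimeSpectrum.basicOpen f)).hom).mp h0
  exact ⟨w, k, j, hw, hj⟩

theorem mapD_toOpen {W W' : ModuleCat.{u} R} (φ : W ⟶ W') (f : R) (w : W) :
    mapD φ f (tilde.toOpen W (PrimeSpectrum.basicOpen f) w) = tilde.toOpen W' (PrimeSpectrum.basicOpen f) (φ w) :=
  congr($(tilde.toOpen_map_app φ (PrimeSpectrum.basicOpen f)) w)

theorem eq_zero_of_numerator {W : ModuleCat.{u} R} (f : R) (x : secD W f) (w : W) (k j : ℕ)
    (hw : f ^ k • x = tilde.toOpen W (PrimeSpectrum.basicOpen f) w) (hj : f ^ j • w = 0) : x = 0 := by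
  have hu := IsLocalizedModule.map_units (tilde.toOpen W (PrimeSpectrum.basicOpen f)).hom
    (⟨f ^ (j + k), j + k, rfl⟩ : Submonoid.powers f)
  rw [Module.End.isUnit_iff] at hu
  refine hu.1 ?_
  change f ^ (j + k) • x = f ^ (j + k) • (0 : secD W f)
  rw [smul_zero, pow_add, mul_smul, hw, ← map_smul, hj, map_zero]

theorem map_app_eq_zero_of_transpose {W : ModuleCat.{u} R} {N : (Spec R).Modules}
    [IsIso ((tilde.adjunction (R := R)).counit.app N)] (q : W ⟶ moduleSpecΓFunctor.obj N)
    (f : R) (x : secD W f)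
    (h : Scheme.Modules.Hom.app ((tilde.adjunction.homEquiv W N).symm q) (PrimeSpectrum.basicOpen f : (Spec R).Opens) x = 0) :
    mapD q f x = 0 := by
  rw [Adjunction.homEquiv_counit] at h
  haveI : IsIso (Scheme.Modules.Hom.app ((tilde.adjunction (R := R)).counit.app N) (PrimeSpectrum.basicOpen f : (Spec R).Opens)) :=
    Scheme.Modules.Hom.isIso_iff_isIso_app.mp ‹IsIso ((tilde.adjunction (R := R)).counit.app N)› _
  exact (ConcreteCategory.bijective_of_isIso (Scheme.Modules.Hom.app ((tilde.adjunction (R := R)).counit.app N)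
    (PrimeSpectrum.basicOpen f : (Spec R).Opens))).1 (h.trans (map_zero _).symm)

end

variable {A : Type u} [CommRing A]

theorem exists_range_factor {L W : ModuleCat.{u} A} (p : L ⟶ W) (J : Submodule A L)
    (h : LinearMap.ker p.hom ≤ J) :
    ∃ (K : ModuleCat.{u} A) (i : K ⟶ W) (q : K ⟶ ModuleCat.of A (L ⧸ J)), Mono i ∧ Epi q :=
  ⟨ModuleCat.of A (LinearMap.range p.hom), ModuleCat.ofHom (LinearMap.range p.hom).subtype,
    ModuleCat.ofHom ((Submodule.factor h).comp p.hom.quotKerEquivRange.symm.toLinearMap),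
    (ModuleCat.mono_iff_injective _).mpr Subtype.val_injective,
    (ModuleCat.epi_iff_surjective _).mpr
      ((Submodule.factor_surjective h).comp p.hom.quotKerEquivRange.symm.surjective)⟩

variable [IsNoetherianRing A]

theorem isCoh_restrict_quot (I : Ideal A) (U : (Spec (CommRingCat.of A)).Opens)
    (G : ℕᵒᵖ ⥤ (U : Scheme.{u}).Modules) (hG : Formal.IsCohFormal I G)
    (hb : ∀ k : ℕ, ∃ n : ℕ, LinearMap.ker (limit.π (Algz.sectMod A U G) (op n)).hom ≤
      I ^ k • (⊤ : Submodule A ↑(limit (Algz.sectMod A U G)))) (n : ℕ) :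
    Coh.IsCoh ((Scheme.Modules.restrictFunctor U.ι).obj
      (Formal2.tmod A (Formal2.quotPow A I ↑(limit (Algz.sectMod A U G)) n))) := by
  haveI : QuasiCompact U.ι := QCoh.quasiCompact_ι_of_compact U (TopologicalSpace.NoetherianSpace.isCompact _)
  haveI : IsNoetherian (Spec (CommRingCat.of A)) := inferInstance
  haveI : IsLocallyNoetherian (U : Scheme.{u}) := isLocallyNoetherian_of_isOpenImmersion U.ι
  let X := Algz.sectMod A U G
  obtain ⟨N, hN⟩ := hb (n + 1)
  obtain ⟨K, i, q, hi, hq⟩ := exists_range_factor (limit.π X (op N)) _ hN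
  let R := Scheme.Modules.restrictFunctor U.ι
  let T := tilde.functor (CommRingCat.of A)
  haveI : T.IsLeftAdjoint := tilde.adjunction.isLeftAdjoint
  have hi' : Mono (R.map (T.map i)) :=
    @Functor.map_mono _ _ _ _ R inferInstance _ _ (T.map i) (@QCoh.tildeMap_mono (CommRingCat.of A) _ _ i hi)
  have hq' : Epi (R.map (T.map q)) :=
    @Functor.map_epi _ _ _ _ R inferInstance _ _ (T.map q) (@Functor.map_epi _ _ _ _ T inferInstance _ _ q hq)
  have hε := isIso_counit (QCoh.isQCoh_pushforward U.ι (hG.1 N).1)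
  let c : R.obj (T.obj (X.obj (op N))) ⟶ G.obj (op N) :=
    R.map ((tilde.adjunction (R := CommRingCat.of A)).counit.app ((Scheme.Modules.pushforward U.ι).obj (G.obj (op N)))) ≫
      (Scheme.Modules.restrictAdjunction U.ι).counit.app (G.obj (op N))
  haveI := hε
  have hc1 := Functor.map_isIso R ((tilde.adjunction (R := CommRingCat.of A)).counit.app ((Scheme.Modules.pushforward U.ι).obj (G.obj (op N))))
  have hc : IsIso c := @IsIso.comp_isIso _ _ _ _ _ _ _ hc1 inferInstance
  have hK : Coh.IsCoh (R.obj (T.obj K)) :=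
    @QCoh.isCoh_of_mono _ _ _ _ (R.map (T.map i) ≫ c) (@mono_comp _ _ _ _ _ _ hi' c (@IsIso.mono_of_iso _ _ _ _ _ hc))
      (hG.1 N) (QCoh.isQCoh_restrict U.ι (inferInstanceAs (tilde (R := CommRingCat.of A) K).IsQuasicoherent))
  haveI := hq'
  exact @QCoh.isCoh_of_epi _ _ _ (R.map (T.map q)) hq' hK (QCoh.isQCoh_restrict U.ι
    (inferInstanceAs (tilde (R := CommRingCat.of A) (ModuleCat.of A (Formal2.quotPow A I ↑(limit X) n))).IsQuasicoherent))

theorem eq_zero_of_map_eq_zero (I : Ideal A) (U : (Spec (CommRingCat.of A)).Opens)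
    (G : ℕᵒᵖ ⥤ (U : Scheme.{u}).Modules) (hG : Formal.IsCohFormal I G)
    (hb : ∀ k : ℕ, ∃ n : ℕ, LinearMap.ker (limit.π (Algz.sectMod A U G) (op n)).hom ≤
      I ^ k • (⊤ : Submodule A ↑(limit (Algz.sectMod A U G))))
    (ℓ : ∀ n : ℕ, ModuleCat.of A (Formal2.quotPow A I ↑(limit (Algz.sectMod A U G)) n) ⟶ (Algz.sectMod A U G).obj (op n))
    (hℓ : ∀ n : ℕ, ModuleCat.ofHom (Formal2.quotPowπ A I ↑(limit (Algz.sectMod A U G)) n) ≫ ℓ n = limit.π (Algz.sectMod A U G) (op n))
    (f : A) (x : ∀ n : ℕ, secD (R := CommRingCat.of A) (ModuleCat.of A (Formal2.quotPow A I ↑(limit (Algz.sectMod A U G)) n)) f)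
    (hcomp : ∀ n : ℕ, mapD (R := CommRingCat.of A) (ModuleCat.ofHom (Formal2.quotPowTrans A I ↑(limit (Algz.sectMod A U G)) n)) f (x (n + 1)) = x n)
    (h0 : ∀ n : ℕ, Scheme.Modules.Hom.app
      (((tilde.adjunction (R := CommRingCat.of A)).homEquiv (ModuleCat.of A (Formal2.quotPow A I ↑(limit (Algz.sectMod A U G)) n))
        ((Scheme.Modules.pushforward U.ι).obj (G.obj (op n)))).symm (ℓ n))
      (PrimeSpectrum.basicOpen f : (Spec (CommRingCat.of A)).Opens) (x n) = 0) (n : ℕ) : x n = 0 := by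
  haveI : QuasiCompact U.ι := QCoh.quasiCompact_ι_of_compact U (TopologicalSpace.NoetherianSpace.isCompact _)
  let X := Algz.sectMod A U G
  obtain ⟨N₀, hN₀⟩ := hb (n + 1)
  let N := max n N₀
  have hanti : LinearMap.ker (limit.π X (op N)).hom ≤ I ^ (n + 1) • (⊤ : Submodule A ↑(limit X)) := by
    refine le_trans (fun y hy => ?_) hN₀
    have e : ARSys.tr X (le_max_right n N₀) (limit.π X (op N) y) = limit.π X (op N₀) y :=
      congr($(limit.w X (homOfLE (le_max_right n N₀)).op) y)
    exact LinearMap.mem_ker.mpr ((e.symm.trans (congrArg _ (LinearMap.mem_ker.mp hy))).trans (map_zero _))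
  haveI := isIso_counit (QCoh.isQCoh_pushforward U.ι (hG.1 N).1)
  have hmap : mapD (R := CommRingCat.of A) (ℓ N) f (x N) = 0 :=
    map_app_eq_zero_of_transpose (R := CommRingCat.of A) (ℓ N) f (x N) (h0 N)
  obtain ⟨w, k, j, hw, hj⟩ := exists_numerator (R := CommRingCat.of A) (ℓ N) f (x N) hmap
  obtain ⟨y, rfl⟩ := Submodule.Quotient.mk_surjective _ w
  have hy : f ^ j • y ∈ I ^ (n + 1) • (⊤ : Submodule A ↑(limit X)) := by
    refine hanti (LinearMap.mem_ker.mpr ?_)
    rw [map_smul]
    refine Eq.trans ?_ hj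
    exact congrArg (f ^ j • ·) (congr($(hℓ N) y)).symm
  have hdown : ∀ d, n ≤ d → d ≤ N → f ^ k • x d = tilde.toOpen (R := CommRingCat.of A)
      (ModuleCat.of A (Formal2.quotPow A I ↑(limit (Algz.sectMod A U G)) d)) (PrimeSpectrum.basicOpen f)
      (Submodule.Quotient.mk y) := by
    intro d _ hdN
    obtain ⟨e, he⟩ := Nat.exists_eq_add_of_le hdN
    clear hdN
    induction e generalizing d with
    | zero => obtain rfl : N = d := by omega
              exact hw
    | succ e ih =>
      have h1 := ih (d + 1) (by omega) (by omega)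
      rw [← hcomp d, ← map_smul, h1]
      exact mapD_toOpen (R := CommRingCat.of A) _ f _
  refine eq_zero_of_numerator (R := CommRingCat.of A) f (x n) _ k j (hdown n le_rfl (le_max_left n N₀)) ?_
  exact (Submodule.Quotient.mk_eq_zero _).mpr hy

end Groth.Agent.Algz7
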